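import Groth.Agent.Lib.W2Lift.Formulas
import Mathlib

/-!
# The semilinear map on differentials attached to a lift of Frobenius modulo `p²`
-/

set_option autoImplicit false
set_option backward.isDefEq.respectTransparency false

open MvPolynomial

universe u v w

noncomputable section

namespace GrothLib.FrobLiftDet26

/-- A derivation of a polynomial expression. -/
theorem derivation_aeval {A M : Type*} [CommRing A] [AddCommGroup M] [Module A M] (d : Derivation ℤ A M)
    {σ : Type*} [Fintype σ] (v : σ → A) (P : MvPolynomial σ ℤ) :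
    d (aeval v P) = ∑ i, aeval v (pderiv i P) • d (v i) := by
  classical
  induction P using MvPolynomial.induction_on with
  | C a => simp
  | add P Q hP hQ => simp [hP, hQ, add_smul, Finset.sum_add_distrib]
  | mul_X P j hP =>
    rw [map_mul, aeval_X, Derivation.leibniz, hP, Finset.smul_sum]
    have hr : ∀ i, aeval v (pderiv i (P * X j)) • d (v i) =
        v j • aeval v (pderiv i P) • d (v i) + (if i = j then aeval v P • d (v i) else 0) := by
      intro i
      by_cases hij : i = j
      · subst hij
        simp [add_smul, smul_smul, mul_comm, add_comm]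
      · simp [hij, smul_smul, mul_comm, pderiv_X_of_ne (Ne.symm hij)]
    simp only [hr, Finset.sum_add_distrib, Finset.sum_ite_eq', Finset.mem_univ, if_true]
    rw [add_comm]

variable {p : ℕ} [hp : Fact p.Prime]

/-- The partial derivatives of the carry polynomial. -/
theorem pderiv_carry (i : Fin 2) :
    pderiv i (W2Lift.carry p) = (X 0 + X 1) ^ (p - 1) - X i ^ (p - 1) := by
  classical
  have hmain := W2Lift.add_pow_carry (p := p) (X 0 : MvPolynomial (Fin 2) ℤ) (X 1)
  have hid : aeval ![(X 0 : MvPolynomial (Fin 2) ℤ), X 1] (W2Lift.carry p) = W2Lift.carry p := by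
    have : (![X 0, X 1] : Fin 2 → MvPolynomial (Fin 2) ℤ) = X := by
      funext i; fin_cases i <;> rfl
    rw [this, aeval_X_left_apply]
  rw [hid] at hmain
  have h := congrArg (pderiv i) hmain
  have hp0 : ((p : ℕ) : MvPolynomial (Fin 2) ℤ) ≠ 0 := Nat.cast_ne_zero.2 hp.out.ne_zero
  rcases (show i = 0 ∨ i = 1 by fin_cases i <;> simp) with rfl | rfl <;>
    simp [Derivation.leibniz_pow, Derivation.leibniz] at h <;>
    (refine mul_left_cancel₀ hp0 ?_; linear_combination -h)

variable {A B M : Type*} [CommRing A] [CommRing B] [AddCommGroup M] [Module A M]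

/-- A lift of Frobenius on a square-zero thickening by `p`. -/
structure IsLiftSys (p : ℕ) (π : B →+* A) (Φ : B →+* B) : Prop where
  surj : Function.Surjective π
  p_eq : π (p : B) = 0
  sq : (p : B) * (p : B) = 0
  exists_div : ∀ b, π b = 0 → ∃ c, b = (p : B) * c
  inj : ∀ b, (p : B) * b = 0 → π b = 0
  red : ∀ b, π (Φ b) = π b ^ p

variable {π : B →+* A} {Φ : B →+* B}

/-- Divided differences exist. -/
theorem IsLiftSys.exists_F (h : IsLiftSys p π Φ) (b : B) : ∃ F, Φ b = b ^ p + (p : B) * F := by
  obtain ⟨F, hF⟩ := h.exists_div (Φ b - b ^ p) (by rw [map_sub, h.red, map_pow, sub_self])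
  exact ⟨F, by rw [← hF]; ring⟩

variable (h : IsLiftSys p π Φ) (d : Derivation ℤ A M)

include h in
theorem IsLiftSys.natCast_smul (m : M) : (p : A) • m = 0 := by
  rw [← map_natCast π, h.p_eq, zero_smul]

include h in
theorem IsLiftSys.d_pow (x : A) : d (x ^ p) = 0 := by
  rw [Derivation.leibniz_pow, ← Nat.cast_smul_eq_nsmul A, h.natCast_smul]

include h in
/-- The divided difference of a lift is well defined up to `p`-th powers. -/
theorem IsLiftSys.d_F_eq {b b' F F' : B} (hb : π b = π b') (hF : Φ b = b ^ p + (p : B) * F)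
    (hF' : Φ b' = b' ^ p + (p : B) * F') : d (π F') = d (π F) := by
  obtain ⟨c, hc⟩ := h.exists_div (b' - b) (by rw [map_sub, hb, sub_self])
  obtain rfl : b' = b + (p : B) * c := by rw [← hc]; ring
  have h1 : (b + (p : B) * c) ^ p = b ^ p := by
    rw [W2Lift.add_pow_carry (p := p) b ((p : B) * c)]
    obtain ⟨q, hq⟩ : ∃ q, aeval ![b, (p : B) * c] (W2Lift.carry p) = q * ((p : B) * c) := by
      rw [W2Lift.carry, map_mul, map_mul, aeval_X, aeval_X]
      exact ⟨_, rfl⟩
    rw [hq, mul_pow]
    obtain ⟨q', hq'⟩ : ∃ q', p = 2 + q' := Nat.exists_eq_add_of_le hp.out.two_le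
    rw [show (p : B) ^ p = (p : B) * (p : B) * (p : B) ^ q' by rw [hq', pow_add, pow_two],
      show (p : B) * (q * ((p : B) * c)) = ((p : B) * (p : B)) * (q * c) by ring, h.sq]
    simp
  rw [h1, map_add, map_mul, map_natCast, hF, add_assoc, ← mul_add] at hF'
  have h2 : π (F + Φ c - F') = 0 := h.inj _ (by rw [mul_sub, sub_eq_zero]; exact add_left_cancel hF')
  rw [map_sub, map_add, h.red, sub_eq_zero] at h2
  rw [← h2, map_add, h.d_pow, add_zero]

/-- The twisted derivation. -/
def IsLiftSys.twist (a : A) : M :=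
  a ^ (p - 1) • d a + d (π (h.exists_F (h.surj a).choose).choose)

theorem IsLiftSys.twist_spec {b F : B} (hF : Φ b = b ^ p + (p : B) * F) :
    h.twist d (π b) = π b ^ (p - 1) • d (π b) + d (π F) := by
  rw [IsLiftSys.twist]
  congr 1
  exact h.d_F_eq d (h.surj (π b)).choose_spec.symm hF (h.exists_F (h.surj (π b)).choose).choose_spec

theorem IsLiftSys.twist_add (a a' : A) : h.twist d (a + a') = h.twist d a + h.twist d a' := by
  obtain ⟨b, rfl⟩ := h.surj a
  obtain ⟨b', rfl⟩ := h.surj a'
  obtain ⟨F, hF⟩ := h.exists_F b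
  obtain ⟨F', hF'⟩ := h.exists_F b'
  have hsum : Φ (b + b') = (b + b') ^ p + (p : B) * (F + F' - aeval ![b, b'] (W2Lift.carry p)) := by
    rw [map_add, hF, hF', W2Lift.add_pow_carry (p := p) b b']
    ring
  rw [← map_add, h.twist_spec d hsum, h.twist_spec d hF, h.twist_spec d hF', map_add, map_sub, map_sub,
    W2Lift.map_aeval_carry π b b', derivation_aeval, Fin.sum_univ_two, pderiv_carry, pderiv_carry, map_add, map_add]
  simp [sub_smul]
  abel

theorem IsLiftSys.twist_mul (a a' : A) :
    h.twist d (a * a') = a ^ p • h.twist d a' + a' ^ p • h.twist d a := by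
  obtain ⟨b, rfl⟩ := h.surj a
  obtain ⟨b', rfl⟩ := h.surj a'
  obtain ⟨F, hF⟩ := h.exists_F b
  obtain ⟨F', hF'⟩ := h.exists_F b'
  have hmul : Φ (b * b') = (b * b') ^ p + (p : B) * (b ^ p * F' + b' ^ p * F) := by
    rw [map_mul, hF, hF']
    linear_combination (F * F') * h.sq
  rw [← map_mul, h.twist_spec d hmul, h.twist_spec d hF, h.twist_spec d hF']
  simp only [map_add, map_mul, map_pow, Derivation.leibniz, h.d_pow, smul_zero, add_zero]
  have hp1 : ∀ x : A, x ^ p = x * x ^ (p - 1) := fun x => by
    rw [← pow_succ', Nat.sub_add_cancel hp.out.one_le]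
  simp only [smul_add, smul_smul, mul_pow, hp1 (π b), hp1 (π b'), add_comm, add_left_comm]
  ring_nf
  abel

theorem IsLiftSys.twist_pow_p (x : A) : h.twist d (x ^ p) = 0 := by
  have key : ∀ n : ℕ, h.twist d (x ^ (n + 1)) = ((n + 1 : ℕ) : A) • (x ^ (n * p) • h.twist d x) := by
    intro n
    induction n with
    | zero => simp
    | succ n ih =>
      rw [pow_succ' x (n + 1), h.twist_mul, ih, smul_smul, smul_smul, smul_smul, ← pow_mul, ← add_smul]
      congr 1
      push_cast
      ring
  obtain ⟨q, hq⟩ : ∃ q, p = q + 1 := ⟨p - 1, (Nat.sub_add_cancel hp.out.one_le).symm⟩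
  have := key q
  rw [← hq] at this
  rw [this, h.natCast_smul]

end GrothLib.FrobLiftDet26

namespace GrothLib.FrobLiftDet26

/-- A module with scalars twisted by a ring endomorphism. -/
def Tw {A : Type u} [CommRing A] (_σ : A →+* A) (M : Type v) : Type v := M

variable {A : Type u} [CommRing A] (σ : A →+* A) {M : Type v} [AddCommGroup M] [Module A M]

instance : AddCommGroup (Tw σ M) := inferInstanceAs (AddCommGroup M)

instance : Module A (Tw σ M) := Module.compHom M σ

/-- A twisted derivation factors through a semilinear map on differentials. -/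
theorem exists_semilinear (R : Type w) [CommRing R] [Algebra R A] (D' : A → M)
    (hadd : ∀ a b, D' (a + b) = D' a + D' b)
    (hmul : ∀ a b, D' (a * b) = σ a • D' b + σ b • D' a) (hR : ∀ r : R, D' (algebraMap R A r) = 0) :
    ∃ L : KaehlerDifferential R A →+ M, (∀ a, L (KaehlerDifferential.D R A a) = D' a) ∧
      ∀ (a : A) x, L (a • x) = σ a • L x := by
  letI : Module R (Tw σ M) := Module.compHom (Tw σ M) (algebraMap R A)
  haveI : IsScalarTower R A (Tw σ M) := IsScalarTower.of_algebraMap_smul fun _ _ => rfl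
  let D'' : Derivation R A (Tw σ M) := Derivation.mk'
    { toFun := fun a => (D' a : Tw σ M)
      map_add' := hadd
      map_smul' := fun r a => by
        show D' (r • a) = σ (algebraMap R A r) • D' a
        rw [Algebra.smul_def, hmul, hR, smul_zero, add_zero] }
    hmul
  exact ⟨D''.liftKaehlerDifferential.toAddMonoidHom, fun a => D''.liftKaehlerDifferential_comp_D a,
    fun a x => D''.liftKaehlerDifferential.map_smul a x⟩

end GrothLib.FrobLiftDet26

end
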