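import Mathlib

/-!
# The projective line through its function field: derivative, `p`-th powers, behaviour at infinity
-/

set_option autoImplicit false
set_option linter.style.haveILetI false
set_option backward.isDefEq.respectTransparency false

universe u

open Polynomial TrivSqZeroExt

noncomputable section

namespace GrothLib.FrobLiftDet26.RatLine

variable {k : Type u} [Field k]

/-- Fractions of polynomials. -/
abbrev ι (k : Type u) [Field k] : k[X] →+* RatFunc k := algebraMap k[X] (RatFunc k)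

theorem faithfulSMul : FaithfulSMul k[X] (RatFunc k) :=
  (faithfulSMul_iff_algebraMap_injective k[X] (RatFunc k)).2 (RatFunc.algebraMap_injective k)

attribute [local instance 5000] faithfulSMul

/-- The embedding of polynomials into dual numbers by value and derivative. -/
def jet : k[X] →+* TrivSqZeroExt (RatFunc k) (RatFunc k) where
  toFun f := inl (ι k f) + inr (ι k (derivative f))
  map_one' := by simp
  map_zero' := by simp
  map_add' f g := by
    ext <;> simp only [fst_add, fst_inl, fst_inr, snd_add, snd_inl, snd_inr, map_add, add_zero, zero_add]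
  map_mul' f g := by
    ext <;> simp only [fst_add, fst_inl, fst_inr, snd_add, snd_inl, snd_inr, fst_mul, TrivSqZeroExt.snd_mul,
      smul_eq_mul, op_smul_eq_smul, map_add, map_mul, derivative_mul, add_zero, zero_add] <;> ring

theorem isUnit_jet (g : nonZeroDivisors k[X]) : IsUnit (jet (k := k) g) := by
  rw [TrivSqZeroExt.isUnit_iff_isUnit_fst]
  have hg : ι k (g : k[X]) ≠ 0 := RatFunc.algebraMap_ne_zero (nonZeroDivisors.coe_ne_zero g)
  simp only [jet, RingHom.coe_mk, MonoidHom.coe_mk, OneHom.coe_mk, fst_add, fst_inl, fst_inr, add_zero]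
  exact isUnit_iff_ne_zero.2 hg

/-- The jet of a rational function. -/
def liftJet : RatFunc k →+* TrivSqZeroExt (RatFunc k) (RatFunc k) :=
  IsLocalization.lift (M := nonZeroDivisors k[X]) (g := jet) isUnit_jet

/-- The derivative of a rational function. -/
def D (r : RatFunc k) : RatFunc k := (liftJet r).snd

theorem fst_lift (r : RatFunc k) : (liftJet r).fst = r := by
  have h : (TrivSqZeroExt.fstHom (RatFunc k) (RatFunc k) (RatFunc k)).toRingHom.comp
      liftJet = RingHom.id _ := by
    refine IsLocalization.ringHom_ext (nonZeroDivisors k[X]) (RingHom.ext fun f => ?_)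
    simp [jet, liftJet]
  exact DFunLike.congr_fun h r

theorem D_add (r s : RatFunc k) : D (r + s) = D r + D s := by simp [D]

theorem D_zero : D (0 : RatFunc k) = 0 := by simp [D]

theorem D_mul (r s : RatFunc k) : D (r * s) = r * D s + s * D r := by
  simp only [D, map_mul, TrivSqZeroExt.snd_mul, fst_lift]
  simp [mul_comm]

theorem D_one : D (1 : RatFunc k) = 0 := by simp [D]

theorem D_ι (f : k[X]) : D (ι k f) = ι k (derivative f) := by
  rw [D, liftJet, IsLocalization.lift_eq]
  simp only [jet, RingHom.coe_mk, MonoidHom.coe_mk, OneHom.coe_mk, snd_add, snd_inl, snd_inr, zero_add]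

theorem D_C (c : k) : D (ι k (C c)) = 0 := by rw [D_ι]; simp

theorem D_pow (r : RatFunc k) (n : ℕ) : D (r ^ n) = n * r ^ (n - 1) * D r := by
  induction n with
  | zero => simp [D_one]
  | succ n ih =>
    rw [pow_succ, D_mul, ih]
    rcases n with _ | n
    · simp
    · simp [pow_succ]
      ring

theorem D_inv_mul (r g : RatFunc k) (hg : g ≠ 0) : D (r / g) = (g * D r - r * D g) / g ^ 2 := by
  have h := D_mul (r / g) g
  rw [div_mul_cancel₀ r hg] at h
  field_simp at h ⊢
  linear_combination -h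

section CharP

variable (p : ℕ) [hp : Fact p.Prime] [CharP k p]

theorem natCast_p : (p : RatFunc k) = 0 := by
  rw [← map_natCast (ι k), ← map_natCast (C : k →+* k[X]), CharP.cast_eq_zero, map_zero, map_zero]

theorem D_pow_p (r : RatFunc k) : D (r ^ p) = 0 := by rw [D_pow, natCast_p, zero_mul, zero_mul]

theorem exists_pow_eq_of_D_eq_zero [PerfectRing k p] {r : RatFunc k} (h : D r = 0) :
    ∃ q : RatFunc k, q ^ p = r := by
  have hden : ι k r.denom ≠ 0 := (map_ne_zero_iff _ (RatFunc.algebraMap_injective k)).2 r.denom_ne_zero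
  let f : k[X] := r.num * r.denom ^ (p - 1)
  have hr : r * ι k r.denom ^ p = ι k f := by
    nth_rewrite 1 [← r.num_div_denom]
    obtain ⟨q, hq⟩ : ∃ q, p = q + 1 := ⟨p - 1, (Nat.sub_add_cancel hp.out.one_le).symm⟩
    simp only [f, map_mul, map_pow, hq, Nat.add_sub_cancel, pow_succ]
    rw [div_mul_eq_mul_div, ← mul_assoc, mul_div_assoc, div_self hden, mul_one]
  have hf : derivative f = 0 := by
    refine RatFunc.algebraMap_injective k ?_
    show ι k _ = ι k 0
    rw [← D_ι, ← hr, D_mul, h, D_pow_p, map_zero]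
    ring
  have he : f = Polynomial.expand k p (Polynomial.contract p f) :=
    (Polynomial.expand_contract p hf hp.out.ne_zero).symm
  have hroot : ∃ q : k[X], q ^ p = f := by
    refine ⟨(Polynomial.contract p f).map (frobeniusEquiv k p).symm.toRingHom, ?_⟩
    rw [← Polynomial.map_frobenius_expand p, Polynomial.map_expand, Polynomial.map_map]
    conv_rhs => rw [he]
    congr 1
    refine Eq.trans ?_ (Polynomial.map_id (p := Polynomial.contract p f))
    congr 1
    refine RingHom.ext fun x => ?_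
    simp
  obtain ⟨q, hq⟩ := hroot
  refine ⟨ι k q / ι k r.denom, ?_⟩
  rw [div_pow, ← map_pow, hq, ← hr, mul_div_assoc, div_self (pow_ne_zero _ hden), mul_one]

theorem exists_eq_C_of_pow_eq {r : RatFunc k} (h : ∀ n : ℕ, ∃ q : RatFunc k, q ^ (p ^ n) = r) :
    ∃ c : k, ι k (C c) = r := by
  obtain ⟨n, hn⟩ : ∃ n, r.num.natDegree + r.denom.natDegree < p ^ n :=
    ⟨_, Nat.lt_pow_self hp.out.one_lt⟩
  obtain ⟨q, hq⟩ := h n
  by_cases hr : r = 0
  · exact ⟨0, by simp [hr]⟩
  have hq0 : q ≠ 0 := fun h0 => hr (by rw [← hq, h0, zero_pow (pow_ne_zero n hp.out.ne_zero)])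
  have heq : r.num * q.denom ^ p ^ n = r.denom * q.num ^ p ^ n := by
    refine RatFunc.algebraMap_injective k ?_
    have e1 : (ι k q.denom) ≠ 0 := (map_ne_zero_iff _ (RatFunc.algebraMap_injective k)).2 q.denom_ne_zero
    have e2 : (ι k r.denom) ≠ 0 := (map_ne_zero_iff _ (RatFunc.algebraMap_injective k)).2 r.denom_ne_zero
    have := hq
    conv_lhs at this => rw [← q.num_div_denom]
    conv_rhs at this => rw [← r.num_div_denom]
    rw [div_pow, div_eq_div_iff (pow_ne_zero _ e1) e2] at this
    show ι k _ = ι k _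
    rw [map_mul, map_mul, map_pow, map_pow]
    linear_combination -this
  have hd1 : q.num ^ p ^ n ∣ r.num :=
    (q.isCoprime_num_denom.pow).dvd_of_dvd_mul_right ⟨r.denom, by rw [heq]; ring⟩
  have hd2 : q.denom ^ p ^ n ∣ r.denom :=
    (q.isCoprime_num_denom.symm.pow).dvd_of_dvd_mul_right ⟨r.num, by rw [← heq]; ring⟩
  have small : ∀ a b : k[X], b ≠ 0 → a ^ p ^ n ∣ b → b.natDegree < p ^ n → a.natDegree = 0 := by
    intro a b hb hab hlt
    have := Polynomial.natDegree_le_of_dvd hab hb
    rw [natDegree_pow] at this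
    by_contra h0
    have : p ^ n * 1 ≤ p ^ n * a.natDegree := Nat.mul_le_mul_left _ (Nat.one_le_iff_ne_zero.2 h0)
    omega
  have hnum := small _ _ (by simpa using RatFunc.num_ne_zero hr) hd1 (by omega)
  have hden := small _ _ r.denom_ne_zero hd2 (by omega)
  refine ⟨(q.num.coeff 0 / q.denom.coeff 0) ^ p ^ n, ?_⟩
  rw [← hq]
  conv_rhs => rw [← q.num_div_denom, eq_C_of_natDegree_eq_zero hnum, eq_C_of_natDegree_eq_zero hden]
  simp only [map_pow, map_div₀]
  congr 1
  show ((ι k).comp C) _ = ((ι k).comp C) _ / ((ι k).comp C) _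
  rw [map_div₀]

end CharP

/-- Regular at a prime. -/
def Reg (P : Ideal k[X]) (r : RatFunc k) : Prop := ∃ a b : k[X], b ∉ P ∧ r * ι k b = ι k a

variable {P : Ideal k[X]} [hP : P.IsPrime]

theorem Reg.poly (a : k[X]) : Reg P (ι k a) :=
  ⟨a, 1, fun h => hP.ne_top ((Ideal.eq_top_iff_one P).2 h), by simp⟩

theorem Reg.add {r s : RatFunc k} : Reg P r → Reg P s → Reg P (r + s) := by
  rintro ⟨a, b, hb, h⟩ ⟨c, d, hd, h'⟩
  exact ⟨a * d + c * b, b * d, fun hh => (hP.mem_or_mem hh).elim hb hd, by
    rw [map_add, map_mul, map_mul, map_mul, ← h, ← h']; ring⟩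

theorem Reg.mul {r s : RatFunc k} : Reg P r → Reg P s → Reg P (r * s) := by
  rintro ⟨a, b, hb, h⟩ ⟨c, d, hd, h'⟩
  exact ⟨a * c, b * d, fun hh => (hP.mem_or_mem hh).elim hb hd, by
    rw [map_mul, map_mul, ← h, ← h']; ring⟩

theorem Reg.sum {α : Type*} (s : Finset α) {g : α → RatFunc k} (h : ∀ i ∈ s, Reg P (g i)) :
    Reg P (∑ i ∈ s, g i) := by
  classical
  induction s using Finset.induction_on with
  | empty => simpa using Reg.poly (P := P) 0
  | insert a s ha ih =>
    rw [Finset.sum_insert ha]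
    exact (h a (Finset.mem_insert_self a s)).add (ih fun i hi => h i (Finset.mem_insert_of_mem hi))

theorem Reg.pow {r : RatFunc k} (h : Reg P r) (n : ℕ) : Reg P (r ^ n) := by
  induction n with
  | zero => simpa using Reg.poly (P := P) 1
  | succ n ih => rw [pow_succ]; exact ih.mul h

theorem Reg.D {r : RatFunc k} : Reg P r → Reg P (RatLine.D r) := by
  rintro ⟨a, b, hb, h⟩
  have hb0 : b ≠ 0 := fun h0 => hb (h0 ▸ P.zero_mem)
  have e := congrArg RatLine.D h
  rw [D_mul, D_ι, D_ι] at e
  refine ⟨derivative a * b - a * derivative b, b * b, fun hh => (hP.mem_or_mem hh).elim hb hb, ?_⟩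
  rw [map_sub, map_mul, map_mul, map_mul, ← h]
  linear_combination (ι k b) * e

omit hP in
/-- A fraction regular at every maximal ideal is a polynomial. -/
theorem exists_poly_of_reg {r : RatFunc k} (h : ∀ P : Ideal k[X], P.IsMaximal → Reg P r) :
    ∃ a : k[X], ι k a = r := by
  let J : Ideal k[X] :=
    { carrier := {b | ∃ a, r * ι k b = ι k a}
      add_mem' := fun ⟨a, ha⟩ ⟨a', ha'⟩ => ⟨a + a', by rw [map_add, map_add, mul_add, ha, ha']⟩
      zero_mem' := ⟨0, by simp⟩
      smul_mem' := fun c b ⟨a, ha⟩ => ⟨c * a, by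
        rw [smul_eq_mul, map_mul, map_mul, ← ha]; ring⟩ }
  have hJ : J = ⊤ := by
    by_contra hne
    obtain ⟨m, hm, hJm⟩ := Ideal.exists_le_maximal J hne
    obtain ⟨a, b, hb, hab⟩ := h m hm
    exact hb (hJm ⟨a, hab⟩)
  obtain ⟨a, ha⟩ : (1 : k[X]) ∈ J := hJ ▸ trivial
  exact ⟨a, by rw [← ha, map_one, mul_one]⟩

section Infinity

theorem eval₂_ratFuncX (g : k[X]) : eval₂ ((ι k).comp C) (RatFunc.X : RatFunc k) g = ι k g := by
  rw [← RatFunc.algebraMap_X, ← Polynomial.hom_eval₂, eval₂_C_X]

theorem inv_injective : Function.Injective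
    (eval₂RingHom ((ι k).comp C) ((RatFunc.X : RatFunc k)⁻¹)) := by
  rw [injective_iff_map_eq_zero]
  intro f hf
  have hX : (RatFunc.X : RatFunc k) ≠ 0 := RatFunc.X_ne_zero
  letI : Invertible ((RatFunc.X : RatFunc k)) := invertibleOfNonzero hX
  have h := eval₂_reverse_mul_pow ((ι k).comp C) (RatFunc.X : RatFunc k) f
  have hrev := eval₂_ratFuncX (k := k)
  by_contra hne
  have h2 : ι k f.reverse = 0 := by
    have h3 := eval₂_reverse_eq_zero_iff ((ι k).comp C) ((RatFunc.X : RatFunc k)⁻¹) f
    have : Invertible ((RatFunc.X : RatFunc k)⁻¹) := invertibleOfNonzero (inv_ne_zero hX)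
    have h4 := (eval₂_reverse_eq_zero_iff ((ι k).comp C) ((RatFunc.X : RatFunc k)⁻¹) f).2 hf
    rw [_root_.invOf_eq_inv, _root_.inv_inv, hrev] at h4
    exact h4
  rw [map_eq_zero_iff _ (RatFunc.algebraMap_injective k), reverse_eq_zero] at h2
  exact hne h2

/-- The automorphism `X ↦ X⁻¹`. -/
def inv (k : Type u) [Field k] : RatFunc k →+* RatFunc k :=
  IsFractionRing.lift (inv_injective (k := k))

theorem inv_ι (f : k[X]) : inv k (ι k f) = eval₂ ((ι k).comp C) ((RatFunc.X : RatFunc k)⁻¹) f :=
  IsFractionRing.lift_algebraMap inv_injective f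

theorem inv_X : inv k RatFunc.X = RatFunc.X⁻¹ := by
  rw [show (RatFunc.X : RatFunc k) = ι k X from (RatFunc.algebraMap_X).symm, inv_ι, eval₂_X, RatFunc.algebraMap_X]

theorem inv_C (c : k) : inv k (ι k (C c)) = ι k (C c) := by rw [inv_ι, eval₂_C]; rfl

theorem inv_inv (r : RatFunc k) : inv k (inv k r) = r := by
  have h : (inv k).comp (inv k) = RingHom.id _ := by
    refine IsLocalization.ringHom_ext (nonZeroDivisors k[X]) (Polynomial.ringHom_ext (fun c => ?_) ?_)
    · show inv k (inv k (ι k (C c))) = ι k (C c)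
      rw [inv_C, inv_C]
    · show inv k (inv k (ι k X)) = ι k X
      rw [show ι k X = (RatFunc.X : RatFunc k) from RatFunc.algebraMap_X, inv_X, map_inv₀, inv_X, _root_.inv_inv]
  exact DFunLike.congr_fun h r

theorem D_inv (r : RatFunc k) : D (inv k r) = -(RatFunc.X⁻¹ ^ 2) * inv k (D r) := by
  have hX : (RatFunc.X : RatFunc k) ≠ 0 := RatFunc.X_ne_zero
  have hDX : D ((RatFunc.X : RatFunc k)⁻¹) = -(RatFunc.X⁻¹ ^ 2) := by
    have h := D_mul (RatFunc.X : RatFunc k)⁻¹ RatFunc.X
    rw [inv_mul_cancel₀ hX, D_one, show D (RatFunc.X : RatFunc k) = 1 by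
      rw [show (RatFunc.X : RatFunc k) = ι k X from (RatFunc.algebraMap_X).symm, D_ι]; simp] at h
    field_simp at h ⊢
    linear_combination -h
  have hp : ∀ f : k[X], D (inv k (ι k f)) = -(RatFunc.X⁻¹ ^ 2) * inv k (ι k (derivative f)) := by
    intro f
    induction f using Polynomial.induction_on' with
    | add a b ha hb => rw [map_add, map_add, D_add, ha, hb, derivative_add, map_add, map_add]; ring
    | monomial n c =>
      rw [inv_ι, inv_ι, eval₂_monomial, derivative_monomial, eval₂_monomial, D_mul,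
        show D (((ι k).comp C) c) = 0 from D_C c, D_pow, hDX]
      simp
      ring
  have hn : ι k r.denom ≠ 0 := (map_ne_zero_iff _ (RatFunc.algebraMap_injective k)).2 r.denom_ne_zero
  have hn' : inv k (ι k r.denom) ≠ 0 := (_root_.map_ne_zero _).2 hn
  conv_lhs => rw [← r.num_div_denom, map_div₀, D_inv_mul _ _ hn', hp, hp]
  conv_rhs => rw [← r.num_div_denom, D_inv_mul _ _ hn, D_ι, D_ι]
  simp only [map_div₀, map_sub, map_mul, map_pow]
  ring

/-- A polynomial vanishing at infinity is zero. -/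
theorem eq_zero_of_vanish {q : k[X]} {N : ℕ} (hN : 0 < N) {v : RatFunc k}
    (hv : Reg (Ideal.span {(X : k[X])}) v) (h : inv k (ι k q) = ι k X ^ N * v) : q = 0 := by
  obtain ⟨a, b, hb, hab⟩ := hv
  by_contra hq
  have hX : (RatFunc.X : RatFunc k) ≠ 0 := RatFunc.X_ne_zero
  letI : Invertible ((RatFunc.X : RatFunc k)⁻¹) := invertibleOfNonzero (inv_ne_zero hX)
  have hXi : ⅟((RatFunc.X : RatFunc k)⁻¹) = RatFunc.X := by rw [_root_.invOf_eq_inv, _root_.inv_inv]
  have hrev : ι k q.reverse * RatFunc.X⁻¹ ^ q.natDegree = inv k (ι k q) := by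
    rw [inv_ι, ← eval₂_reverse_mul_pow ((ι k).comp C) ((RatFunc.X : RatFunc k)⁻¹) q, hXi]
    rw [eval₂_ratFuncX]
  rw [← hrev, RatFunc.algebraMap_X, inv_pow] at h
  have hp : q.reverse * b = X ^ (N + q.natDegree) * a := by
    refine RatFunc.algebraMap_injective k ?_
    show ι k _ = ι k _
    rw [map_mul, map_mul, map_pow, ← hab, RatFunc.algebraMap_X]
    field_simp at h
    linear_combination (ι k b) * h
  have hb0 : b.coeff 0 ≠ 0 := fun h0 => hb (Ideal.mem_span_singleton.2 (X_dvd_iff.2 h0))
  have := congrArg (fun f => coeff f 0) hp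
  simp only [mul_coeff_zero, coeff_X_pow, show (0 = N + q.natDegree) = False from eq_false (by omega),
    if_false, zero_mul, mul_eq_zero, hb0, or_false, coeff_zero_reverse] at this
  exact hq (leadingCoeff_eq_zero.1 this)

end Infinity

end GrothLib.FrobLiftDet26.RatLine

end
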