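import Groth.Agent.Lib.FrobLiftDet26.Units
import Groth.Agent.Lib.FrobLiftDet26.RatLine
import Mathlib

/-!
# Rational points over the function field of the line are constant
-/

set_option autoImplicit false
set_option maxHeartbeats 1000000
set_option linter.style.haveILetI false
set_option backward.isDefEq.respectTransparency false

universe u

open CategoryTheory CategoryTheory.Limits AlgebraicGeometry Opposite TopologicalSpace

noncomputable section

namespace GrothLib.FrobLiftDet26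

open GrothLib.InvExt (mres)
open GrothLib.Ample (res)
open GrothLib.FinCov (IsFrame)
open RatLine (ι)

local notation "Xp" => Polynomial.X

theorem RatLine.faithfulSMul' {k : Type u} [Field k] : FaithfulSMul (Polynomial k) (RatFunc k) :=
  RatLine.faithfulSMul

attribute [local instance 5000] RatLine.faithfulSMul'

section Loc

variable {k : Type u} [Field k]

/-- Fractions with denominator a power of `g`. -/
def LocAt (g : Polynomial k) (r : RatFunc k) : Prop := ∃ (N : ℕ) (b : Polynomial k), r * ι k g ^ N = ι k b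

theorem LocAt.add {g : Polynomial k} {r s : RatFunc k} : LocAt g r → LocAt g s → LocAt g (r + s) := by
  rintro ⟨N, b, h⟩ ⟨M, c, h'⟩
  exact ⟨N + M, b * g ^ M + c * g ^ N, by rw [map_add, map_mul, map_mul, map_pow, map_pow, ← h, ← h', pow_add]; ring⟩

theorem LocAt.mul {g : Polynomial k} {r s : RatFunc k} : LocAt g r → LocAt g s → LocAt g (r * s) := by
  rintro ⟨N, b, h⟩ ⟨M, c, h'⟩
  exact ⟨N + M, b * c, by rw [map_mul, ← h, ← h', pow_add]; ring⟩

theorem LocAt.poly {g : Polynomial k} (a : Polynomial k) : LocAt g (ι k a) := ⟨0, a, by simp⟩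

theorem LocAt.sum {g : Polynomial k} {α : Type*} (s : Finset α) {G : α → RatFunc k}
    (h : ∀ i ∈ s, LocAt g (G i)) : LocAt g (∑ i ∈ s, G i) := by
  classical
  induction s using Finset.induction_on with
  | empty => simpa using LocAt.poly (g := g) 0
  | insert a s ha ih =>
    rw [Finset.sum_insert ha]
    exact (h a (Finset.mem_insert_self a s)).add (ih fun i hi => h i (Finset.mem_insert_of_mem hi))

theorem LocAt.pow {g : Polynomial k} {r : RatFunc k} (h : LocAt g r) (n : ℕ) : LocAt g (r ^ n) := by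
  induction n with
  | zero => simpa using LocAt.poly (g := g) 1
  | succ n ih => rw [pow_succ]; exact ih.mul h

theorem LocAt.D {g : Polynomial k} {r : RatFunc k} : LocAt g r → LocAt g (RatLine.D r) := by
  rintro ⟨N, b, h⟩
  have e := congrArg RatLine.D h
  rw [RatLine.D_mul, ← map_pow, RatLine.D_ι, RatLine.D_ι] at e
  refine ⟨N + N, Polynomial.derivative b * g ^ N - b * Polynomial.derivative (g ^ N), ?_⟩
  rw [map_sub, map_mul, map_mul, map_pow, ← h, pow_add]
  rw [map_pow (ι k) g N] at e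
  linear_combination (ι k g ^ N) * e

theorem poly_of_pow {r : RatFunc k} {n : ℕ} (hn : n ≠ 0) {b : Polynomial k} (h : r ^ n = ι k b) :
    ∃ a, r = ι k a := by
  obtain ⟨a, ha⟩ := IsIntegrallyClosed.isIntegral_iff.1
    (⟨Xp ^ n - Polynomial.C b, Polynomial.monic_X_pow_sub_C b hn, by
      rw [Polynomial.eval₂_sub, Polynomial.eval₂_X_pow, Polynomial.eval₂_C]
      exact sub_eq_zero.2 h⟩ : IsIntegral (Polynomial k) r)
  exact ⟨a, ha.symm⟩

theorem LocAt.root {g : Polynomial k} {r : RatFunc k} {n : ℕ} (hn : n ≠ 0) (h : LocAt g (r ^ n)) :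
    LocAt g r := by
  obtain ⟨N, b, h⟩ := h
  obtain ⟨a, ha⟩ := poly_of_pow hn (r := r * ι k g ^ N) (b := b * g ^ (N * (n - 1))) (by
    rw [mul_pow, ← pow_mul, map_mul, map_pow, ← h, mul_assoc, ← pow_add]
    congr 2
    obtain ⟨q, rfl⟩ : ∃ q, n = q + 1 := ⟨n - 1, (Nat.succ_pred_eq_of_ne_zero hn).symm⟩
    rw [Nat.add_sub_cancel, mul_add, mul_one, add_comm])
  exact ⟨N, a, ha⟩

variable {P : Ideal (Polynomial k)} [hP : P.IsPrime]

theorem LocAt.reg {g : Polynomial k} {r : RatFunc k} (hg : g ∉ P) : LocAt g r → RatLine.Reg P r := by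
  rintro ⟨N, b, h⟩
  exact ⟨b, g ^ N, fun hh => hg (hP.mem_of_pow_mem N hh), by rw [map_pow]; exact h⟩

theorem reg_root {r : RatFunc k} {n : ℕ} (hn : n ≠ 0) (h : RatLine.Reg P (r ^ n)) : RatLine.Reg P r := by
  obtain ⟨a, b, hb, hab⟩ := h
  obtain ⟨c, hc⟩ := poly_of_pow hn (r := r * ι k b) (b := a * b ^ (n - 1)) (by
    rw [mul_pow, map_mul, map_pow, ← hab, mul_assoc, ← pow_succ',
      show n - 1 + 1 = n from Nat.succ_pred_eq_of_ne_zero hn])
  exact ⟨c, b, hb, hc⟩

theorem ι_reverse (Q : Polynomial k) :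
    RatLine.inv k (ι k Q) * RatFunc.X ^ Q.natDegree = ι k Q.reverse := by
  have hX : (RatFunc.X : RatFunc k) ≠ 0 := RatFunc.X_ne_zero
  letI : Invertible ((RatFunc.X : RatFunc k)⁻¹) := invertibleOfNonzero (inv_ne_zero hX)
  rw [RatLine.inv_ι, ← Polynomial.eval₂_reverse_mul_pow ((ι k).comp Polynomial.C) ((RatFunc.X : RatFunc k)⁻¹) Q,
    _root_.invOf_eq_inv, _root_.inv_inv, RatLine.eval₂_ratFuncX, mul_assoc, ← mul_pow, inv_mul_cancel₀ hX,
    one_pow, mul_one]

end Loc

variable {p : ℕ} [Fact p.Prime] {k : Type u} [Field k] [IsAlgClosed k] [CharP k p] {X : Scheme.{u}}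
  [FrobSch.IsCharP X p] {f : X ⟶ Spec (CommRingCat.of k)} [QuasiSeparated f] (L : Lift p f) {d : ℕ}

instance : (Ideal.span {(Polynomial.X : Polynomial k)}).IsPrime :=
  (Ideal.span_singleton_prime Polynomial.X_ne_zero).2 Polynomial.prime_X

/-- Order at infinity at least `N`. -/
def AtInf (N : ℕ) (r : RatFunc k) : Prop :=
  ∃ w, RatLine.Reg (Ideal.span {(Polynomial.X : Polynomial k)}) w ∧ RatLine.inv k r = ι k Xp ^ N * w

theorem AtInf.zero (N : ℕ) : AtInf N (0 : RatFunc k) :=
  ⟨0, by simpa using RatLine.Reg.poly (P := Ideal.span {(Polynomial.X : Polynomial k)}) 0, by simp⟩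

theorem AtInf.add {N : ℕ} {r s : RatFunc k} : AtInf N r → AtInf N s → AtInf N (r + s) := by
  rintro ⟨w, hw, h⟩ ⟨v, hv, h'⟩
  exact ⟨w + v, hw.add hv, by rw [map_add, h, h', mul_add]⟩

theorem AtInf.sum {N : ℕ} {α : Type*} (s : Finset α) {G : α → RatFunc k} (h : ∀ i ∈ s, AtInf N (G i)) :
    AtInf N (∑ i ∈ s, G i) := by
  classical
  induction s using Finset.induction_on with
  | empty => simpa using AtInf.zero (k := k) N
  | insert a s ha ih =>
    rw [Finset.sum_insert ha]
    exact (h a (Finset.mem_insert_self a s)).add (ih fun i hi => h i (Finset.mem_insert_of_mem hi))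

theorem AtInf.smul {N : ℕ} {r s : RatFunc k} :
    RatLine.Reg (Ideal.span {(Polynomial.X : Polynomial k)}) (RatLine.inv k r) → AtInf N s → AtInf N (r * s) := by
  rintro hr ⟨w, hw, h⟩
  exact ⟨RatLine.inv k r * w, hr.mul hw, by rw [map_mul, h]; ring⟩

/-- Compatible points with values in `k(t)` of the charts around a given point. -/
structure Pt (y₀ : X) where
  /-- the ring maps -/
  h : ∀ c : Chart L (d := d), y₀ ∈ c.D → (Γ(X, c.D) →+* RatFunc k)
  compat : ∀ (a b : Chart L (d := d)) (ha : y₀ ∈ a.D) (hb : y₀ ∈ b.D) (hle : b.V ≤ a.V) (x : Γ(X, a.D)),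
    h b hb (res (L.i.preimage_mono hle) x) = h a ha x
  consts : ∀ (c : Chart L (d := d)) (hc : y₀ ∈ c.D) (r : Γ(Spec (CommRingCat.of k), ⊤)),
    ∃ μ : k, h c hc (f.appLE ⊤ c.D le_top r) = ι k (Polynomial.C μ)
  /-- a finite cover of the affine line -/
  s : Finset (Polynomial k)
  span_s : Ideal.span (s : Set (Polynomial k)) = ⊤
  /-- the charts of the pieces -/
  cs : ∀ g ∈ s, Chart L (d := d)
  mem_cs : ∀ g hg, y₀ ∈ (cs g hg).D
  loc : ∀ g hg x, LocAt g (h (cs g hg) (mem_cs g hg) x)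
  /-- the chart at infinity -/
  cinf : Chart L (d := d)
  mem_inf : y₀ ∈ cinf.D
  reg_inf : ∀ x, RatLine.Reg (Ideal.span {(Polynomial.X : Polynomial k)}) (RatLine.inv k (h cinf mem_inf x))

variable {L} {y₀ : X} (Q : Pt L (d := d) y₀)

theorem exists_refine (a b : Chart L (d := d)) (ha : y₀ ∈ a.D) (hb : y₀ ∈ b.D) :
    ∃ (t : Chart L (d := d)) (_ : y₀ ∈ t.D), t.V ≤ a.V ∧ t.V ≤ b.V := by
  obtain ⟨V, hV, hyV, hle⟩ := exists_isAffineOpen_mem_and_subset (X := L.Xl) (x := L.i y₀) (U := a.V ⊓ b.V) ⟨ha, hb⟩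
  have hVa : V ≤ a.V := fun z hz => (hle hz).1
  have hVb : V ≤ b.V := fun z hz => (hle hz).2
  obtain ⟨ξ, hξ⟩ := L.exists_xi hV
  exact ⟨⟨V, hV, _, TensorGen.isFrame_restrict a.he (L.i.preimage_mono hVa), ξ, hξ⟩, hyV, hVa, hVb⟩

/-- Compatible semilinear functionals on differentials. -/
structure IsFam (φ : ∀ c : Chart L (d := d), y₀ ∈ c.D → (Γ(Omega.sheaf f, c.D) → RatFunc k)) : Prop where
  add : ∀ c hc v w, φ c hc (v + w) = φ c hc v + φ c hc w
  smul : ∀ c hc (r : Γ(X, Chart.D c)) v, φ c hc (r • v) = Q.h c hc r * φ c hc v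
  compat : ∀ (a b : Chart L (d := d)) (ha : y₀ ∈ a.D) (hb : y₀ ∈ b.D) (hle : b.V ≤ a.V) (v : Γ(Omega.sheaf f, a.D)),
    φ b hb (mres (Omega.sheaf f) (L.i.preimage_mono hle) v) = φ a ha v

variable {Q}

theorem IsFam.expand {φ : ∀ c : Chart L (d := d), y₀ ∈ c.D → (Γ(Omega.sheaf f, c.D) → RatFunc k)} (hφ : IsFam Q φ)
    (c : Chart L (d := d)) (hc : y₀ ∈ c.D) (b : Module.Basis (Fin d) Γ(X, c.D) Γ(Omega.sheaf f, c.D))
    (v : Γ(Omega.sheaf f, c.D)) : φ c hc v = ∑ j, Q.h c hc (b.repr v j) * φ c hc (b j) := by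
  let ψ : Γ(Omega.sheaf f, c.D) →+ RatFunc k := AddMonoidHom.mk' (φ c hc) (hφ.add c hc)
  show ψ v = _
  conv_lhs => rw [← b.sum_repr v]
  rw [map_sum]
  exact Finset.sum_congr rfl fun j _ => hφ.smul c hc _ _

/-- The properties preserved along the iteration. -/
structure Bounded (φ : ∀ c : Chart L (d := d), y₀ ∈ c.D → (Γ(Omega.sheaf f, c.D) → RatFunc k)) (N : ℕ) : Prop where
  isFam : IsFam Q φ
  loc : ∀ g hg v, LocAt g (φ (Q.cs g hg) (Q.mem_cs g hg) v)
  inf : ∀ v, AtInf N (φ Q.cinf Q.mem_inf v)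

theorem exists_next (hu : ∀ c : Chart L (d := d), IsUnit c.cdet)
    {φ : ∀ c : Chart L (d := d), y₀ ∈ c.D → (Γ(Omega.sheaf f, c.D) → RatFunc k)} {N : ℕ} (hφ : Bounded (Q := Q) φ N) :
    ∃ φ' : ∀ c : Chart L (d := d), y₀ ∈ c.D → (Γ(Omega.sheaf f, c.D) → RatFunc k), Bounded (Q := Q) φ' (p * N) ∧
      ∀ c hc v, φ' c hc (c.ξ v) = φ c hc v ^ p := by
  classical
  have hb : ∀ c : Chart L (d := d), ∃ b : Module.Basis (Fin d) Γ(X, c.D) Γ(Omega.sheaf f, c.D),
      ∀ j, b j = c.ξ (c.e j) := by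
    intro c
    obtain ⟨hli, hsp⟩ := (Module.Basis.is_basis_iff_det (c.he.basis c.D le_rfl)).2 (hu c)
    exact ⟨Module.Basis.mk hli hsp.ge, fun j => Module.Basis.mk_apply hli hsp.ge j⟩
  choose b hb using hb
  haveI : CharP (RatFunc k) p := charP_of_injective_algebraMap (algebraMap k (RatFunc k)).injective p
  let φ' : ∀ c : Chart L (d := d), y₀ ∈ c.D → (Γ(Omega.sheaf f, c.D) → RatFunc k) :=
    fun c hc v => ∑ j, Q.h c hc ((b c).repr v j) * φ c hc (c.e j) ^ p
  have hadd : ∀ c hc v w, φ' c hc (v + w) = φ' c hc v + φ' c hc w := fun c hc v w => by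
    simp [φ', add_mul, Finset.sum_add_distrib]
  have hsmul : ∀ c hc (r : Γ(X, Chart.D c)) v, φ' c hc (r • v) = Q.h c hc r * φ' c hc v := fun c hc r v => by
    simp [φ', Finset.mul_sum, mul_assoc]
  have hbe : ∀ (c : Chart L (d := d)) (hc : y₀ ∈ c.D) j, φ' c hc (c.ξ (c.e j)) = φ c hc (c.e j) ^ p := by
    intro c hc j
    show ∑ i, _ = _
    rw [← hb c j, Finset.sum_eq_single j]
    · simp
    · intro i _ hi
      simp [Finsupp.single_apply, Ne.symm hi]
    · simp
  have hξv : ∀ c hc v, φ' c hc (c.ξ v) = φ c hc v ^ p := by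
    intro c hc v
    let B := c.he.basis c.D le_rfl
    have hBe : ∀ j, B j = c.e j := fun j =>
      (FinCov.IsFrame.basis_apply c.he _ le_rfl j).trans (InvExt.mres_self _ _)
    let ψ : Γ(Omega.sheaf f, c.D) →+ RatFunc k := AddMonoidHom.mk' (φ' c hc) (hadd c hc)
    let Ξ : Γ(Omega.sheaf f, c.D) →+ Γ(Omega.sheaf f, c.D) := AddMonoidHom.mk' c.ξ c.hξ.add
    have h1 : c.ξ v = ∑ j, B.repr v j ^ p • c.ξ (c.e j) := by
      show Ξ v = _
      conv_lhs => rw [← B.sum_repr v]
      rw [map_sum]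
      exact Finset.sum_congr rfl fun j _ => by rw [hBe]; exact c.hξ.smul _ _
    rw [hφ.isFam.expand c hc B v, sum_pow_char, h1]
    show ψ _ = _
    rw [map_sum]
    refine Finset.sum_congr rfl fun j _ => ?_
    show φ' c hc _ = _
    rw [hsmul, hbe, map_pow, hBe, mul_pow]
  refine ⟨φ', ⟨⟨hadd, hsmul, fun a t ha ht hle v => ?_⟩, fun g hg v => ?_, fun v => ?_⟩, hξv⟩
  · have key : ∀ j, φ' t ht (mres (Omega.sheaf f) (L.i.preimage_mono hle) (b a j)) = φ' a ha (b a j) := by
      intro j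
      rw [hb, a.hξ.mres L t.hξ a.hV hle, hξv, hbe]
      congr 1
      exact hφ.isFam.compat a t ha ht hle _
    let ψ : Γ(Omega.sheaf f, a.D) →+ RatFunc k := AddMonoidHom.mk'
      (fun v => φ' t ht (mres (Omega.sheaf f) (L.i.preimage_mono hle) v))
      fun v w => by rw [mres_add, hadd]
    let ψ' : Γ(Omega.sheaf f, a.D) →+ RatFunc k := AddMonoidHom.mk' (φ' a ha) (hadd a ha)
    show ψ v = ψ' v
    conv_lhs => rw [← (b a).sum_repr v]
    conv_rhs => rw [← (b a).sum_repr v]
    rw [map_sum, map_sum]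
    refine Finset.sum_congr rfl fun j _ => ?_
    show φ' t ht (mres _ _ (_ • _)) = φ' a ha (_ • _)
    rw [InvExt.mres_smul, hsmul, hsmul, key]
    congr 1
    exact Q.compat a t ha ht hle _
  · exact LocAt.sum _ fun j _ => (Q.loc g hg _).mul ((hφ.loc g hg _).pow p)
  · refine AtInf.sum _ fun j _ => AtInf.smul (Q.reg_inf _) ?_
    obtain ⟨w, hw, h⟩ := hφ.inf (Q.cinf.e j)
    exact ⟨w ^ p, hw.pow p, by rw [map_pow, h, mul_pow, ← pow_mul, mul_comm N p]⟩

variable (Q) in
theorem exists_init : ∃ φ : ∀ c : Chart L (d := d), y₀ ∈ c.D → (Γ(Omega.sheaf f, c.D) → RatFunc k),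
    Bounded (Q := Q) φ 2 ∧ ∀ c hc x, φ c hc (OmegaSh.dSect f c.D x) = RatLine.D (Q.h c hc x) := by
  classical
  have hex : ∀ (c : Chart L (d := d)) (hc : y₀ ∈ c.D), ∃ E : Γ(Omega.sheaf f, c.D) →+ RatFunc k,
      (∀ (r : Γ(X, c.D)) v, E (r • v) = Q.h c hc r * E v) ∧
        ∀ x, E (OmegaSh.dSect f c.D x) = RatLine.D (Q.h c hc x) := by
    intro c hc
    letI : Algebra Γ(Spec (CommRingCat.of k), ⊤) Γ(X, c.D) := (f.appLE ⊤ c.D le_top).hom.toAlgebra
    letI : Algebra Γ(X, c.D) (RatFunc k) := (Q.h c hc).toAlgebra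
    letI : Algebra Γ(Spec (CommRingCat.of k), ⊤) (RatFunc k) :=
      ((Q.h c hc).comp (f.appLE ⊤ c.D le_top).hom).toAlgebra
    haveI : IsScalarTower Γ(Spec (CommRingCat.of k), ⊤) Γ(X, c.D) (RatFunc k) :=
      IsScalarTower.of_algebraMap_eq' rfl
    let Dh : Derivation Γ(Spec (CommRingCat.of k), ⊤) Γ(X, c.D) (RatFunc k) := Derivation.mk'
      { toFun := fun a => RatLine.D (Q.h c hc a)
        map_add' := fun a b => by rw [map_add, RatLine.D_add]
        map_smul' := fun r a => by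
          rw [Algebra.smul_def, map_mul, RatLine.D_mul]
          obtain ⟨μ, hμ⟩ := Q.consts c hc r
          have e : Q.h c hc (algebraMap Γ(Spec (CommRingCat.of k), ⊤) Γ(X, c.D) r) = ι k (Polynomial.C μ) := hμ
          rw [e, RatLine.D_C, mul_zero, add_zero, RingHom.id_apply, Algebra.smul_def]
          congr 1
          exact hμ.symm }
      fun a b => by
        show RatLine.D _ = a • RatLine.D _ + b • RatLine.D _
        rw [map_mul, RatLine.D_mul, Algebra.smul_def, Algebra.smul_def]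
        rfl
    let TS : KaehlerDifferential Γ(Spec (CommRingCat.of k), ⊤) Γ(X, c.D) ≃ₗ[Γ(X, c.D)] Γ(Omega.sheaf f, c.D) :=
      LinearEquiv.ofBijective (OmAff.toSect f ⊤ c.D le_top).hom
        (OmAff9.bijective_toSect f c.aff.2 (isAffineOpen_top _) le_top)
    refine ⟨(Dh.liftKaehlerDifferential.comp TS.symm.toLinearMap).toAddMonoidHom, fun r v => ?_, fun x => ?_⟩
    · exact ((Dh.liftKaehlerDifferential.comp TS.symm.toLinearMap).map_smul r v).trans (Algebra.smul_def r _)
    · have hT : TS.symm (OmegaSh.dSect f c.D x) =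
          KaehlerDifferential.D Γ(Spec (CommRingCat.of k), ⊤) Γ(X, c.D) x :=
        TS.symm_apply_eq.2 (OmAff.toSect_d f ⊤ c.D le_top x).symm
      show Dh.liftKaehlerDifferential (TS.symm _) = _
      rw [hT]
      exact Dh.liftKaehlerDifferential_comp_D x
  choose E hEs hEd using hex
  refine ⟨fun c hc v => E c hc v, ⟨⟨fun c hc => map_add (E c hc), hEs, fun a t ha ht hle v => ?_⟩,
    fun g hg v => ?_, fun v => ?_⟩, hEd⟩
  · induction span_dSect a.aff.2 v using Submodule.span_induction with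
    | mem y hy =>
      obtain ⟨x, rfl⟩ := hy
      rw [show mres (Omega.sheaf f) (L.i.preimage_mono hle) (OmegaSh.dSect f a.D x) = _ from
        (OmegaSh.dSect_map f (L.i.preimage_mono hle) x).symm, hEd, hEd]
      exact congrArg RatLine.D (Q.compat a t ha ht hle x)
    | zero => rw [mres_zero, map_zero, map_zero]
    | add x y _ _ hx hy => rw [mres_add, map_add, map_add, hx, hy]
    | smul r x _ hx =>
      rw [InvExt.mres_smul, hEs, hEs, hx]
      congr 1
      exact Q.compat a t ha ht hle _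
  · induction span_dSect (Q.cs g hg).aff.2 v using Submodule.span_induction with
    | mem y hy =>
      obtain ⟨x, rfl⟩ := hy
      rw [hEd]
      exact (Q.loc g hg x).D
    | zero => rw [map_zero]; simpa using LocAt.poly (g := g) 0
    | add x y _ _ hx hy => rw [map_add]; exact hx.add hy
    | smul r x _ hx => rw [hEs]; exact (Q.loc g hg r).mul hx
  · induction span_dSect Q.cinf.aff.2 v using Submodule.span_induction with
    | mem y hy =>
      obtain ⟨x, rfl⟩ := hy
      rw [hEd]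
      refine ⟨-RatLine.D (RatLine.inv k (Q.h Q.cinf Q.mem_inf x)), ?_, ?_⟩
      · rw [show -RatLine.D (RatLine.inv k (Q.h Q.cinf Q.mem_inf x)) =
          ι k (-1) * RatLine.D (RatLine.inv k (Q.h Q.cinf Q.mem_inf x)) by simp]
        exact (RatLine.Reg.poly _).mul (Q.reg_inf x).D
      · have hX : (RatFunc.X : RatFunc k) ≠ 0 := RatFunc.X_ne_zero
        rw [RatLine.D_inv, RatFunc.algebraMap_X]
        field_simp
    | zero => rw [map_zero]; exact AtInf.zero 2
    | add x y _ _ hx hy => rw [map_add]; exact hx.add hy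
    | smul r x _ hx => rw [hEs]; exact AtInf.smul (Q.reg_inf r) hx

/-- The derivative of the point vanishes. -/
theorem D_h_eq_zero (hu : ∀ c : Chart L (d := d), IsUnit c.cdet) (c : Chart L (d := d)) (hc : y₀ ∈ c.D)
    (x : Γ(X, c.D)) : RatLine.D (Q.h c hc x) = 0 := by
  classical
  have href : ∀ g : Q.s, ∃ (t : Chart L (d := d)) (_ : y₀ ∈ t.D), t.V ≤ Q.cinf.V ∧ t.V ≤ (Q.cs g.1 g.2).V :=
    fun g => exists_refine _ _ Q.mem_inf (Q.mem_cs g.1 g.2)
  choose t ht hti htg using href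
  let r : ∀ g : Q.s, Fin d → Fin d → RatFunc k := fun g i j =>
    Q.h (t g) (ht g) (((TensorGen.isFrame_restrict (Q.cs g.1 g.2).he (L.i.preimage_mono (htg g))).basis
      (t g).D le_rfl).repr (mres (Omega.sheaf f) (L.i.preimage_mono (hti g)) (Q.cinf.e i)) j)
  let Qd : Polynomial k := ∏ g : Q.s, ∏ i, ∏ j, (r g i j).denom
  have hQd : Qd ≠ 0 := Finset.prod_ne_zero_iff.2 fun g _ => Finset.prod_ne_zero_iff.2 fun i _ =>
    Finset.prod_ne_zero_iff.2 fun j _ => (r g i j).denom_ne_zero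
  have hvanish : ∀ (φ : ∀ c : Chart L (d := d), y₀ ∈ c.D → (Γ(Omega.sheaf f, c.D) → RatFunc k)) (N : ℕ),
      Bounded (Q := Q) φ N → Qd.natDegree < N → ∀ i, φ Q.cinf Q.mem_inf (Q.cinf.e i) = 0 := by
    intro φ N hφ hN i
    set v := φ Q.cinf Q.mem_inf (Q.cinf.e i)
    have hloc : ∀ g : Q.s, LocAt g.1 (ι k Qd * v) := by
      intro g
      have hv : v = ∑ j, r g i j * φ (Q.cs g.1 g.2) (Q.mem_cs g.1 g.2) ((Q.cs g.1 g.2).e j) := by
        refine (hφ.isFam.compat Q.cinf (t g) Q.mem_inf (ht g) (hti g) _).symm.trans ?_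
        rw [hφ.isFam.expand (t g) (ht g)
          ((TensorGen.isFrame_restrict (Q.cs g.1 g.2).he (L.i.preimage_mono (htg g))).basis (t g).D le_rfl)]
        refine Finset.sum_congr rfl fun j _ => congrArg _ ?_
        rw [basis_restrict (Q.cs g.1 g.2).he (L.i.preimage_mono (htg g))]
        exact hφ.isFam.compat (Q.cs g.1 g.2) (t g) (Q.mem_cs g.1 g.2) (ht g) (htg g) _
      rw [hv, Finset.mul_sum]
      refine LocAt.sum _ fun j _ => ?_
      rw [← mul_assoc]
      refine LocAt.mul ?_ (hφ.loc g.1 g.2 _)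
      obtain ⟨q, hq⟩ : (r g i j).denom ∣ Qd :=
        (Finset.dvd_prod_of_mem _ (Finset.mem_univ j)).trans
          ((Finset.dvd_prod_of_mem (fun i => ∏ j, (r g i j).denom) (Finset.mem_univ i)).trans
            (Finset.dvd_prod_of_mem (fun g => ∏ i, ∏ j, (r g i j).denom) (Finset.mem_univ g)))
      have hd : ι k (r g i j).denom ≠ 0 := RatFunc.algebraMap_ne_zero (r g i j).denom_ne_zero
      have : ι k Qd * r g i j = ι k (q * (r g i j).num) := by
        nth_rewrite 1 [← (r g i j).num_div_denom]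
        rw [hq, map_mul, map_mul]
        field_simp
      rw [this]
      exact LocAt.poly _
    have hpoly : ∃ a, ι k a = ι k Qd * v := by
      refine RatLine.exists_poly_of_reg fun P hP => ?_
      haveI := hP.isPrime
      obtain ⟨g, hg, hgP⟩ : ∃ g ∈ Q.s, g ∉ P := by
        by_contra hall
        push Not at hall
        exact hP.ne_top (top_le_iff.1 (Q.span_s ▸ Ideal.span_le.2 fun g hg => hall g hg))
      exact (hloc ⟨g, hg⟩).reg hgP
    obtain ⟨a, ha⟩ := hpoly
    obtain ⟨w, hw, hwv⟩ := hφ.inf (Q.cinf.e i)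
    have hQi : RatLine.inv k (ι k a) = ι k Xp ^ (N - Qd.natDegree) * (ι k Qd.reverse * w) := by
      rw [ha, map_mul, hwv, ← ι_reverse, RatFunc.algebraMap_X]
      obtain ⟨e, he⟩ := Nat.exists_eq_add_of_le hN.le
      rw [he, Nat.add_sub_cancel_left, pow_add]
      ring
    have ha0 := RatLine.eq_zero_of_vanish (Nat.sub_pos_of_lt hN) ((RatLine.Reg.poly _).mul hw) hQi
    rw [ha0, map_zero] at ha
    exact (mul_eq_zero.1 ha.symm).resolve_left (RatFunc.algebraMap_ne_zero hQd)
  have hiter : ∀ (n : ℕ) (φ : ∀ c : Chart L (d := d), y₀ ∈ c.D → (Γ(Omega.sheaf f, c.D) → RatFunc k)) (N : ℕ),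
      Bounded (Q := Q) φ N → Qd.natDegree < p ^ n * N → ∀ i, φ Q.cinf Q.mem_inf (Q.cinf.e i) = 0 := by
    intro n
    induction n with
    | zero => intro φ N hφ hN; exact hvanish φ N hφ (by simpa using hN)
    | succ n ih =>
      intro φ N hφ hN i
      obtain ⟨φ', hφ', hξ⟩ := exists_next hu hφ
      have h0 := ih φ' (p * N) hφ' (by rwa [← mul_assoc, ← pow_succ])
      have : φ' Q.cinf Q.mem_inf (Q.cinf.ξ (Q.cinf.e i)) = 0 := by
        rw [hφ'.isFam.expand Q.cinf Q.mem_inf (Q.cinf.he.basis Q.cinf.D le_rfl)]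
        refine Finset.sum_eq_zero fun j _ => ?_
        rw [(FinCov.IsFrame.basis_apply Q.cinf.he _ le_rfl j).trans (InvExt.mres_self _ _), h0, mul_zero]
      rw [hξ] at this
      exact eq_zero_of_pow_eq_zero this
  obtain ⟨φ, hφ, hφd⟩ := exists_init Q
  have h0 := hiter Qd.natDegree φ 2 hφ (by
    have := Nat.lt_pow_self (n := Qd.natDegree) (Fact.out : p.Prime).one_lt
    omega)
  obtain ⟨t', ht', hti', htc⟩ := exists_refine Q.cinf c Q.mem_inf hc
  rw [← hφd, ← hφ.isFam.compat c t' hc ht' htc,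
    hφ.isFam.expand t' ht' ((TensorGen.isFrame_restrict Q.cinf.he (L.i.preimage_mono hti')).basis t'.D le_rfl)]
  refine Finset.sum_eq_zero fun j _ => ?_
  rw [basis_restrict Q.cinf.he (L.i.preimage_mono hti')]
  simp only []
  rw [hφ.isFam.compat Q.cinf t' Q.mem_inf ht' hti', h0, mul_zero]

variable (Q) in
/-- Every value is a `p^n`-th power. -/
theorem exists_pow_eq (hu : ∀ c : Chart L (d := d), IsUnit c.cdet) (n : ℕ) :
    ∀ (c : Chart L (d := d)) (hc : y₀ ∈ c.D) (x : Γ(X, c.D)), ∃ q, q ^ p ^ n = Q.h c hc x := by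
  induction n generalizing Q with
  | zero => exact fun c hc x => ⟨Q.h c hc x, by simp⟩
  | succ n ih =>
    intro c hc x
    have hr : ∀ c hc x, ∃ q, q ^ p = Q.h c hc x := fun c hc x =>
      RatLine.exists_pow_eq_of_D_eq_zero p (D_h_eq_zero hu c hc x)
    choose q hq using hr
    haveI : CharP (RatFunc k) p := charP_of_injective_algebraMap (algebraMap k (RatFunc k)).injective p
    have inj : ∀ a b : RatFunc k, a ^ p = b ^ p → a = b := fun a b hab => frobenius_inj (RatFunc k) p hab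
    have hp0 : p ≠ 0 := (Fact.out : p.Prime).ne_zero
    let Q' : Pt L (d := d) y₀ :=
      { h := fun c hc =>
          { toFun := q c hc
            map_one' := inj _ _ (by rw [hq, map_one, one_pow])
            map_mul' := fun a b => inj _ _ (by rw [hq, map_mul, mul_pow, hq, hq])
            map_zero' := inj _ _ (by rw [hq, map_zero, zero_pow hp0])
            map_add' := fun a b => inj _ _ (by rw [hq, map_add, add_pow_char, hq, hq]) }
        compat := fun a b ha hb hle x => inj _ _ (by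
          show q b hb _ ^ p = q a ha _ ^ p
          rw [hq, hq]
          exact Q.compat a b ha hb hle x)
        consts := fun c hc r => by
          obtain ⟨μ, hμ⟩ := Q.consts c hc r
          obtain ⟨ν, hν⟩ := IsAlgClosed.exists_pow_nat_eq μ (Fact.out : p.Prime).pos
          refine ⟨ν, inj _ _ ?_⟩
          show q c hc _ ^ p = _
          rw [hq, hμ, ← map_pow, ← map_pow, hν]
        s := Q.s
        span_s := Q.span_s
        cs := Q.cs
        mem_cs := Q.mem_cs
        loc := fun g hg x => by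
          refine LocAt.root hp0 ?_
          show LocAt g (q _ _ x ^ p)
          rw [hq]
          exact Q.loc g hg x
        cinf := Q.cinf
        mem_inf := Q.mem_inf
        reg_inf := fun x => by
          refine reg_root hp0 ?_
          show RatLine.Reg _ (RatLine.inv k (q _ _ x) ^ p)
          rw [← map_pow, hq]
          exact Q.reg_inf x }
    obtain ⟨z, hz⟩ := ih Q' c hc x
    exact ⟨z, by rw [pow_succ, pow_mul, hz]; exact hq c hc x⟩

variable (Q) in
/-- The point is constant. -/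
theorem exists_const (hu : ∀ c : Chart L (d := d), IsUnit c.cdet) (c : Chart L (d := d)) (hc : y₀ ∈ c.D)
    (x : Γ(X, c.D)) : ∃ μ : k, Q.h c hc x = ι k (Polynomial.C μ) :=
  let ⟨μ, hμ⟩ := RatLine.exists_eq_C_of_pow_eq p fun n => exists_pow_eq Q hu n c hc x
  ⟨μ, hμ.symm⟩

end GrothLib.FrobLiftDet26

end
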