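import Groth.Agent.Lib.FrobLiftDet26.Geom
import Groth.Agent.Lib.PCurv.JacobianDet
import Groth.Agent.Lib.NormAmple.Pushdown
import Groth.Agent.Lib.NegTwist.Basic
import Groth.Agent.Lib.CanonTriv.Basic
import Groth.Agent.Lib.DimCut.Product
import Groth.Agent.Lib.ProjCoh.Generic
import Mathlib

/-!
# Sections of powers of the inverse canonical module from a lift of Frobenius
-/

set_option autoImplicit false
set_option maxHeartbeats 1000000
set_option linter.style.haveILetI false
set_option backward.isDefEq.respectTransparency false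

universe u

open CategoryTheory CategoryTheory.Limits AlgebraicGeometry Opposite TopologicalSpace

noncomputable section

namespace GrothLib.FrobLiftDet26

open GrothLib.InvExt (mres IsGen)
open GrothLib.Ample (Cocycle res res_res mres_smul')
open GrothLib.FinCov (IsFrame)

section Algebra

variable {R M : Type*} [CommRing R] [AddCommGroup M] [Module R M] {n : ℕ}

/-- The determinant of a semilinear image. -/
theorem det_semilinear (b : Module.Basis (Fin n) R M) (σ : R →+* R) (ξ : M → M) (hadd : ∀ x y, ξ (x + y) = ξ x + ξ y)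
    (hsmul : ∀ (r : R) x, ξ (r • x) = σ r • ξ x) (v : Fin n → M) :
    b.det (ξ ∘ v) = σ (b.det v) * b.det (ξ ∘ b) := by
  classical
  let L : M →ₛₗ[σ] M := { toFun := ξ, map_add' := hadd, map_smul' := hsmul }
  have key : b.toMatrix (ξ ∘ v) = b.toMatrix (ξ ∘ b) * σ.mapMatrix (b.toMatrix v) := by
    ext i j
    have hv : ξ (v j) = ∑ l, σ (b.repr (v j) l) • ξ (b l) := by
      show L (v j) = _
      conv_lhs => rw [← b.sum_repr (v j)]
      rw [map_sum]
      exact Finset.sum_congr rfl fun l _ => LinearMap.map_smulₛₗ L _ _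
    rw [Module.Basis.toMatrix_apply, Matrix.mul_apply, Function.comp_apply, hv, map_sum, Finsupp.finsetSum_apply]
    refine Finset.sum_congr rfl fun l _ => ?_
    simp [Module.Basis.toMatrix_apply, mul_comm]
  rw [Module.Basis.det_apply, key, Matrix.det_mul, ← RingHom.map_det, mul_comm]
  rfl

theorem det_change (b b' : Module.Basis (Fin n) R M) (v : Fin n → M) : b.det v = b.det b' * b'.det v := by
  have h := DFunLike.congr_fun (AlternatingMap.eq_smul_basis_det b' b.det) v
  simpa using h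

end Algebra

section Frame

variable {X : Scheme.{u}}

theorem det_restrict {M : X.Modules} {V : X.Opens} {n : ℕ} {e : Fin n → Γ(M, V)} (he : IsFrame M V e)
    {W : X.Opens} (h : W ≤ V) (v : Fin n → Γ(M, V)) :
    ((TensorGen.isFrame_restrict he h).basis W le_rfl).det (fun j => mres M h (v j)) =
      res h ((he.basis V le_rfl).det v) := by
  classical
  rw [Module.Basis.det_apply, Module.Basis.det_apply, show res h _ = (X.presheaf.map (homOfLE h).op).hom _ from rfl,
    RingHom.map_det]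
  congr 1
  ext i j
  rw [Module.Basis.toMatrix_apply, RingHom.mapMatrix_apply, Matrix.map_apply, Module.Basis.toMatrix_apply]
  have hexp : mres M h (v j) =
      ∑ l, res h ((he.basis V le_rfl).repr (v j) l) • (TensorGen.isFrame_restrict he h).basis W le_rfl l := by
    conv_lhs => rw [TensorGen.frame_expand he (v j)]
    refine (map_sum (M.presheaf.map (homOfLE h).op).hom _ _).trans ?_
    refine Finset.sum_congr rfl fun l _ => ?_
    rw [FinCov.IsFrame.basis_apply]
    exact (mres_smul' M h _ _).trans (congrArg _ (InvExt.mres_self M _).symm)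
  rw [hexp, Module.Basis.repr_sum_self]

theorem basis_restrict {M : X.Modules} {V : X.Opens} {n : ℕ} {e : Fin n → Γ(M, V)} (he : IsFrame M V e)
    {W : X.Opens} (h : W ≤ V) :
    ⇑((TensorGen.isFrame_restrict he h).basis W le_rfl) = fun i => mres M h (e i) :=
  funext fun i => (FinCov.IsFrame.basis_apply _ W le_rfl i).trans (InvExt.mres_self M _)

/-- A family with unit determinant against a frame is a frame. -/
theorem isFrame_of_isUnit_det {M : X.Modules} {V : X.Opens} {n : ℕ} {e : Fin n → Γ(M, V)} (he : IsFrame M V e)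
    (v : Fin n → Γ(M, V)) (hv : IsUnit ((he.basis V le_rfl).det v)) : IsFrame M V v := by
  intro W hW
  let b := (TensorGen.isFrame_restrict he hW).basis W le_rfl
  have hu : IsUnit (b.det fun j => mres M hW (v j)) := by
    rw [det_restrict]
    exact hv.map _
  obtain ⟨hli, hsp⟩ := (Module.Basis.is_basis_iff_det b).2 hu
  let b' := Module.Basis.mk hli hsp.ge
  have : (fun c : Fin n → Γ(X, W) => ∑ i, c i • mres M hW (v i)) = fun c => b'.equivFun.symm c := by
    funext c
    rw [Module.Basis.equivFun_symm_apply]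
    exact Finset.sum_congr rfl fun i _ => by rw [Module.Basis.mk_apply]
  show Function.Bijective fun c : Fin n → Γ(X, W) => ∑ i, c i • mres M hW (v i)
  rw [this]
  exact b'.equivFun.symm.bijective

end Frame

variable {p : ℕ} [Fact p.Prime] {k : Type u} [Field k] [IsAlgClosed k] [CharP k p] {X : Scheme.{u}}
  [FrobSch.IsCharP X p] {f : X ⟶ Spec (CommRingCat.of k)} [QuasiSeparated f] (L : Lift p f) {d : ℕ}

/-- An affine open of the lift with a frame of differentials and its semilinear map. -/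
structure Chart where
  /-- the open of the lift -/
  V : L.Xl.Opens
  hV : IsAffineOpen V
  /-- the frame -/
  e : Fin d → Γ(Omega.sheaf f, L.i ⁻¹ᵁ V)
  he : IsFrame (Omega.sheaf f) (L.i ⁻¹ᵁ V) e
  /-- the semilinear map -/
  ξ : Γ(Omega.sheaf f, L.i ⁻¹ᵁ V) → Γ(Omega.sheaf f, L.i ⁻¹ᵁ V)
  hξ : L.IsXi V ξ

variable {L}

/-- The open of a chart. -/
abbrev Chart.D (c : Chart L (d := d)) : X.Opens := L.i ⁻¹ᵁ c.V

/-- The determinant of the semilinear map in the frame of a chart. -/
def Chart.cdet (c : Chart L (d := d)) : Γ(X, c.D) := (c.he.basis c.D le_rfl).det (c.ξ ∘ c.e)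

/-- The affine open of a chart. -/
abbrev Chart.aff (c : Chart L (d := d)) : X.affineOpens := ⟨c.D, L.isAffineOpen c.hV⟩

/-- The change of frames on a common affine open of the lift. -/
theorem Chart.change_cdet (a b : Chart L (d := d)) {T : L.Xl.Opens} (hT : IsAffineOpen T) (hTa : T ≤ a.V)
    (hTb : T ≤ b.V) :
    let u := ((TensorGen.isFrame_restrict a.he (L.i.preimage_mono hTa)).basis (L.i ⁻¹ᵁ T) le_rfl).det
      fun j => mres (Omega.sheaf f) (L.i.preimage_mono hTb) (b.e j)
    IsUnit u ∧ res (L.i.preimage_mono hTb) b.cdet = u ^ (p - 1) * res (L.i.preimage_mono hTa) a.cdet := by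
  intro u
  obtain ⟨ξ, hξ⟩ := L.exists_xi hT
  let bA := (TensorGen.isFrame_restrict a.he (L.i.preimage_mono hTa)).basis (L.i ⁻¹ᵁ T) le_rfl
  let bB := (TensorGen.isFrame_restrict b.he (L.i.preimage_mono hTb)).basis (L.i ⁻¹ᵁ T) le_rfl
  have hc : ∀ (c : Chart L (d := d)) (hc : T ≤ c.V), res (L.i.preimage_mono hc) c.cdet =
      ((TensorGen.isFrame_restrict c.he (L.i.preimage_mono hc)).basis (L.i ⁻¹ᵁ T) le_rfl).det
        (ξ ∘ ((TensorGen.isFrame_restrict c.he (L.i.preimage_mono hc)).basis (L.i ⁻¹ᵁ T) le_rfl)) := by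
    intro c hc
    rw [Chart.cdet, ← det_restrict c.he (L.i.preimage_mono hc)]
    congr 1
    funext j
    rw [Function.comp_apply, Function.comp_apply, basis_restrict c.he (L.i.preimage_mono hc)]
    exact c.hξ.mres L hξ c.hV hc (c.e j)
  have hu : u = bA.det bB := by
    show bA.det _ = bA.det bB
    rw [show ⇑bB = _ from basis_restrict b.he (L.i.preimage_mono hTb)]
  have hunit : IsUnit u := hu ▸ bA.isUnit_det bB
  refine ⟨hunit, ?_⟩
  rw [hc b hTb, hc a hTa]
  have h1 := det_semilinear bA (FrobSch.powHom p _ (FrobSch.natCast_eq_zero_app X p _)) ξ hξ.add hξ.smul bB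
  rw [det_change bA bB (ξ ∘ bB), ← hu, FrobSch.powHom_apply] at h1
  refine hunit.mul_left_cancel ?_
  rw [← mul_assoc, ← pow_succ', Nat.sub_add_cancel (Fact.out : p.Prime).one_le]
  exact h1

/-- The number `1 + p + ⋯ + p^(n-1)`. -/
def expo (p n : ℕ) : ℕ := ∑ j ∈ Finset.range n, p ^ j

theorem expo_mul (p n : ℕ) (hp : 1 ≤ p) : (p - 1) * expo p n = p ^ n - 1 := by
  obtain ⟨q, rfl⟩ : ∃ q, p = q + 1 := ⟨p - 1, (Nat.sub_add_cancel hp).symm⟩
  rw [Nat.add_sub_cancel, expo, mul_comm]
  exact Nat.eq_sub_of_add_eq (geom_sum_mul_add q n)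

section Main

variable [IsIntegral X] (L) (W : X.Modules) (hW : ExtPow.IsExtPow d (Omega.sheaf f) W)
  (hF : FlatMod.IsFinLocFreeOfRank d (Omega.sheaf f))

include hF in
theorem exists_chart (x : X) : ∃ c : Chart L (d := d), x ∈ c.D := by
  obtain ⟨U, e, hxU, he⟩ := FinCov.exists_frame_nhd_of_rank hF x
  obtain ⟨V, hV, hxV, hVU⟩ := L.exists_affine x U hxU
  obtain ⟨ξ, hξ⟩ := L.exists_xi hV
  exact ⟨⟨V, hV, _, TensorGen.isFrame_restrict he hVU, ξ, hξ⟩, hxV⟩

include hF in
/-- A chart on which the determinant does not vanish. -/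
theorem exists_chart_ne_zero : ∃ c : Chart L (d := d), Nonempty c.D ∧ c.cdet ≠ 0 := by
  classical
  obtain ⟨c₀, hx⟩ := exists_chart L hF (genericPoint X)
  haveI : Nonempty c₀.D := ⟨⟨_, hx⟩⟩
  let A := Γ(X, c₀.D)
  let b := c₀.he.basis c₀.D le_rfl
  have hspan : ∀ j, ∃ (s : Finset A) (a : A → A), ∑ t ∈ s, a t • OmegaSh.dSect f c₀.D t = c₀.e j := by
    intro j
    obtain ⟨c, hc⟩ := Finsupp.mem_span_range_iff_exists_finsupp.1 (span_dSect c₀.aff.2 (c₀.e j))
    exact ⟨c.support, fun t => c t, hc⟩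
  choose s a hsa using hspan
  obtain ⟨t, ht⟩ : ∃ t : Fin d → A, b.det (fun j => OmegaSh.dSect f c₀.D (t j)) ≠ 0 := by
    by_contra hall
    push Not at hall
    have h1 : b.det c₀.e = 1 := by
      have : c₀.e = b := funext fun j => ((FinCov.IsFrame.basis_apply c₀.he _ le_rfl j).trans
        (InvExt.mres_self _ _)).symm
      rw [this, Module.Basis.det_self]
    have h2 : b.det c₀.e = 0 := by
      rw [show c₀.e = fun j => ∑ t ∈ s j, a j t • OmegaSh.dSect f c₀.D t from funext fun j => (hsa j).symm,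
        ← AlternatingMap.coe_multilinearMap, MultilinearMap.map_sum_finset]
      refine Finset.sum_eq_zero fun r _ => ?_
      rw [MultilinearMap.map_smul_univ, AlternatingMap.coe_multilinearMap, hall, smul_zero]
    exact one_ne_zero (h1.symm.trans h2)
  -- shrink to where `dt` is a frame
  set δ := b.det (fun j => OmegaSh.dSect f c₀.D (t j)) with hδ
  obtain ⟨h, hh⟩ := (L.isLiftSys c₀.hV).surj δ
  let T := L.Xl.basicOpen h
  have hT : IsAffineOpen T := c₀.hV.basicOpen h
  have hTV : T ≤ c₀.V := L.Xl.basicOpen_le h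
  have hDT : L.i ⁻¹ᵁ T = X.basicOpen δ := by
    rw [Scheme.preimage_basicOpen, ← hh]
  have hne : Nonempty (L.i ⁻¹ᵁ T) := by
    rw [hDT]
    refine ⟨⟨genericPoint X, ?_⟩⟩
    have hbo : X.basicOpen δ ≠ ⊥ := fun hbot => ht ((AlgebraicGeometry.basicOpen_eq_bot_iff δ).1 hbot)
    obtain ⟨y, hy⟩ : ((X.basicOpen δ : X.Opens) : Set X).Nonempty := by
      rw [Set.nonempty_iff_ne_empty]
      exact fun he => hbo (SetLike.coe_injective he)
    exact ((genericPoint_spec X).specializes trivial).mem_open (X.basicOpen δ).2 hy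
  let D₁ := L.i ⁻¹ᵁ T
  let t₁ : Fin d → Γ(X, D₁) := fun j => res (L.i.preimage_mono hTV) (t j)
  have he₁ : IsFrame (Omega.sheaf f) D₁ fun j => OmegaSh.dSect f D₁ (t₁ j) := by
    refine isFrame_of_isUnit_det (TensorGen.isFrame_restrict c₀.he (L.i.preimage_mono hTV)) _ ?_
    rw [show (fun j => OmegaSh.dSect f D₁ (t₁ j)) =
        fun j => mres (Omega.sheaf f) (L.i.preimage_mono hTV) (OmegaSh.dSect f c₀.D (t j)) from
      funext fun j => OmegaSh.dSect_map f (L.i.preimage_mono hTV) (t j), det_restrict]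
    have hu : ∀ (E : X.Opens) (hE : E ≤ c₀.D), E = X.basicOpen δ → IsUnit (res hE δ) := by
      rintro E hE rfl
      exact RingedSpace.isUnit_res_basicOpen X.toLocallyRingedSpace.toRingedSpace δ
    exact hu _ _ hDT
  obtain ⟨ξ, hξ⟩ := L.exists_xi hT
  refine ⟨⟨T, hT, _, he₁, ξ, hξ⟩, hne, ?_⟩
  -- the Jacobian computation
  letI alg : Algebra Γ(Spec (CommRingCat.of k), ⊤) Γ(X, D₁) := (f.appLE ⊤ D₁ le_top).hom.toAlgebra
  let TS : KaehlerDifferential Γ(Spec (CommRingCat.of k), ⊤) Γ(X, D₁) ≃ₗ[Γ(X, D₁)] Γ(Omega.sheaf f, D₁) :=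
    LinearEquiv.ofBijective (OmAff.toSect f ⊤ D₁ le_top).hom
      (OmAff9.bijective_toSect f (L.isAffineOpen hT) (isAffineOpen_top _) le_top)
  have hTS : ∀ x, TS.symm (OmegaSh.dSect f D₁ x) =
      KaehlerDifferential.D Γ(Spec (CommRingCat.of k), ⊤) Γ(X, D₁) x := fun x =>
    TS.symm_apply_eq.2 (OmAff.toSect_d f ⊤ D₁ le_top x).symm
  let bs := he₁.basis D₁ le_rfl
  have hbs : ∀ i, bs i = OmegaSh.dSect f D₁ (t₁ i) := fun i =>
    (FinCov.IsFrame.basis_apply he₁ _ le_rfl i).trans (InvExt.mres_self _ _)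
  let bK := bs.map TS.symm
  have hbK : ∀ i, bK i = KaehlerDifferential.D Γ(Spec (CommRingCat.of k), ⊤) Γ(X, D₁) (t₁ i) := fun i => by
    rw [Module.Basis.map_apply, hbs, hTS]
  choose B hB using fun j => (L.isLiftSys hT).surj (t₁ j)
  choose F hF' using fun j => (L.isLiftSys hT).exists_F (B j)
  haveI : Nonempty D₁ := hne
  haveI : IsDomain Γ(X, D₁) := inferInstance
  haveI : CharP Γ(X, D₁) p :=
    (CharP.charP_iff_prime_eq_zero (Fact.out : p.Prime)).2 (FrobSch.natCast_eq_zero_app X p D₁)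
  have key := PCurv.det_add_jacobian_ne_zero bK hbK p fun j => L.i.app T (F j)
  show bs.det (ξ ∘ fun j => OmegaSh.dSect f D₁ (t₁ j)) ≠ 0
  intro h0
  refine key ?_
  rw [← Matrix.det_transpose]
  refine Eq.trans (congrArg Matrix.det (Matrix.ext fun i j => ?_)) ((Module.Basis.det_apply _ _).symm.trans h0)
  have hx : ξ (OmegaSh.dSect f D₁ (t₁ j)) =
      t₁ j ^ (p - 1) • OmegaSh.dSect f D₁ (t₁ j) + OmegaSh.dSect f D₁ (L.i.app T (F j)) := by
    rw [← hB j]
    exact hξ.dval (B j) (F j) (hF' j)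
  rw [Module.Basis.toMatrix_apply, Matrix.transpose_apply, Matrix.of_apply, Function.comp_apply, hx, map_add,
    map_smul, ← hbs j, Module.Basis.repr_self, Finsupp.add_apply, Finsupp.smul_apply, Finsupp.single_apply]
  congr 1
  · by_cases hij : j = i <;> simp [hij]
  · show bK.coord i _ = _
    refine (congrArg (bK.coord i) (hTS (L.i.app T (F j))).symm).trans ?_
    simp [bK]

/-- The cocycle of the canonical module on the charts: the determinants change by `(p-1)`-st powers. -/
theorem exists_cocycle (hW : ExtPow.IsExtPow d (Omega.sheaf f) W) (hF : FlatMod.IsFinLocFreeOfRank d (Omega.sheaf f)) :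
    ∃ (g : ∀ a b : Chart L (d := d), Γ(X, a.D ⊓ b.D))
      (hc : ⨆ c : Chart L (d := d), c.D = ⊤)
      (hs : ∀ (i : Chart L (d := d)) (U : X.Opens) (h : U ≤ i.D), res (le_inf h h) (g i i) = 1)
      (ht : ∀ (i j l : Chart L (d := d)) (U : X.Opens) (hi : U ≤ i.D) (hj : U ≤ j.D) (hl : U ≤ l.D),
        res (le_inf hi hl) (g i l) = res (le_inf hi hj) (g i j) * res (le_inf hj hl) (g j l)),
      Nonempty (W ≅ ({ ι := Chart L (d := d), D := fun c => c.D, g := g, cover := hc, self := hs, change := ht } :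
        Cocycle X).twist 1) ∧
      ∀ (a b : Chart L (d := d)) (U : X.Opens) (ha : U ≤ a.D) (hb : U ≤ b.D),
        res hb b.cdet = res (le_inf ha hb) (g a b) ^ (p - 1) * res ha a.cdet := by
  classical
  obtain ⟨φ, hφ⟩ := hW
  let w : ∀ c : Chart L (d := d), Γ(W, c.D) := fun c => (φ c.aff).symm (exteriorPower.ιMulti _ d c.e)
  have hw : ∀ c : Chart L (d := d), IsGen W c.D (w c) := fun c => TensorGen.isGen_wedge hφ (U := c.aff) c.he
  -- the cocycle of `W`
  choose g hg using fun a b : Chart L (d := d) =>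
    (hw a).exists_smul_eq (inf_le_left : a.D ⊓ b.D ≤ a.D) (mres W inf_le_right (w b))
  have hres : ∀ (a b : Chart L (d := d)) (U : X.Opens) (ha : U ≤ a.D) (hb : U ≤ b.D),
      mres W hb (w b) = res (le_inf ha hb) (g a b) • mres W ha (w a) := by
    intro a b U ha hb
    have := congrArg (mres W (le_inf ha hb)) (hg a b)
    rwa [InvExt.mres_mres, mres_smul', InvExt.mres_mres] at this
  let C : Cocycle X :=
    { ι := Chart L (d := d)
      D := fun c => c.D
      g := g
      cover := eq_top_iff.mpr fun x _ => by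
        obtain ⟨c, hc⟩ := exists_chart L hF x
        exact Opens.mem_iSup.mpr ⟨c, hc⟩
      self := fun i U h => (hw i).smul_left_injective h (by rw [← hres i i U h h, one_smul])
      change := fun i j l U hi hj hl => (hw i).smul_left_injective hi (by
        rw [← hres i l U hi hl, hres j l U hj hl, hres i j U hi hj, smul_smul, mul_comm]) }
  have hm : C.IsFamily 1 (M := W) w := fun i j U hi hj => by rw [pow_one]; exact hres i j U hi hj
  haveI := C.isIso_homOfFamily hm hw
  let eW : W ≅ C.twist 1 := (asIso (C.homOfFamily hm)).symm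
  refine ⟨g, C.cover, C.self, C.change, ⟨eW⟩, ?_⟩
  have hloc : ∀ (a b : Chart L (d := d)) (T : L.Xl.Opens) (_ : IsAffineOpen T) (hTa : T ≤ a.V) (hTb : T ≤ b.V),
      res (L.i.preimage_mono hTb) b.cdet = C.G a b (L.i.preimage_mono hTa) (L.i.preimage_mono hTb) ^ (p - 1) *
        res (L.i.preimage_mono hTa) a.cdet := by
    intro a b T hT hTa hTb
    obtain ⟨-, hu⟩ := a.change_cdet b hT hTa hTb
    rw [hu]
    congr 2
    refine (hw a).smul_left_injective (L.i.preimage_mono hTa) ?_
    show _ = res _ (g a b) • _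
    rw [← hres a b _ (L.i.preimage_mono hTa) (L.i.preimage_mono hTb)]
    let TA : X.affineOpens := ⟨_, L.isAffineOpen hT⟩
    have ha' := TensorGen.mres_wedge hφ (U := b.aff) (V := TA) (L.i.preimage_mono hTb) b.e
      (TensorGen.isFrame_restrict a.he (L.i.preimage_mono hTa))
    refine Eq.trans ?_ ha'.symm
    congr 1
    exact hφ a.aff TA (L.i.preimage_mono hTa) a.e
  intro a b U ha hb
  have hcov : ∀ x : U, ∃ T : L.Xl.Opens, IsAffineOpen T ∧ x.1 ∈ L.i ⁻¹ᵁ T ∧ T ≤ a.V ⊓ b.V := by
    intro x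
    obtain ⟨T, hT, hxT, hle⟩ := exists_isAffineOpen_mem_and_subset (X := L.Xl) (x := L.i x.1)
      (U := a.V ⊓ b.V) ⟨ha x.2, hb x.2⟩
    exact ⟨T, hT, hxT, hle⟩
  choose T hT hxT hTle using hcov
  refine TopCat.Sheaf.eq_of_locally_eq' X.sheaf (fun x => U ⊓ L.i ⁻¹ᵁ T x) U (fun _ => homOfLE inf_le_left)
    (fun x hx => Opens.mem_iSup.mpr ⟨⟨x, hx⟩, hx, hxT ⟨x, hx⟩⟩) _ _ fun x => ?_
  show res inf_le_left _ = res inf_le_left _
  have hl := congrArg (res (inf_le_right : U ⊓ L.i ⁻¹ᵁ T x ≤ L.i ⁻¹ᵁ T x))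
    (hloc a b (T x) (hT x) ((hTle x).trans inf_le_left) ((hTle x).trans inf_le_right))
  simp only [map_mul, map_pow, C.res_G, res_res] at hl
  simp only [map_mul, map_pow, res_res]
  exact hl

include L hW hF in
theorem nontrivial_sections (n : ℕ) (N : X.Modules)
    (hN : ClSub.IsInverseOf N (CohB1.tensorPow W (p ^ n - 1))) : Nontrivial (Coh.HH X N 0) := by
  classical
  obtain ⟨c₀, hne, hc₀⟩ := exists_chart_ne_zero L hF
  obtain ⟨g, hcv, hs, ht, ⟨eW⟩, hloc⟩ := exists_cocycle L W hW hF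
  let C : Cocycle X :=
    { ι := Chart L (d := d), D := fun c => c.D, g := g, cover := hcv, self := hs, change := ht }
  obtain ⟨eq⟩ := C.nonempty_tensorPow_iso (show W ≅ C.twist 1 from eW) (p ^ n - 1)
  obtain ⟨eP⟩ := C.nonempty_pow_twist (p ^ n - 1) 1
  rw [mul_one] at eP
  obtain ⟨eM⟩ := hN
  obtain ⟨eN⟩ := NegTwist.nonempty_iso_inv (C.pow (p ^ n - 1)) (L := CohB1.tensorPow W (p ^ n - 1)) (M := N)
    ⟨GrTilde.tensorModComm _ _ ≪≫ eM⟩ (eq ≪≫ eP.symm)
  have hsec : ∀ (a b : Chart L (d := d)) (U : X.Opens) (ha : U ≤ a.D) (hb : U ≤ b.D),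
      res ha (a.cdet ^ expo p n) = C.G b a hb ha ^ (p ^ n - 1) * res hb (b.cdet ^ expo p n) := by
    intro a b U ha hb
    rw [map_pow, map_pow, hloc b a U hb ha, mul_pow, ← pow_mul, expo_mul p n (Fact.out : p.Prime).one_le]
    rfl
  let σ : (NegTwist.inv (C.pow (p ^ n - 1))).sect 1 ⊤ :=
    ⟨fun c => res inf_le_right (c.cdet ^ expo p n), fun a b U ha hb => by
      rw [pow_one, NegTwist.inv_G, Cocycle.pow_G, res_res, res_res]
      exact hsec a b U (ha.trans inf_le_right) (hb.trans inf_le_right)⟩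
  have hσ : σ ≠ 0 := by
    intro h0
    have h1 : res inf_le_right (c₀.cdet ^ expo p n) = (0 : Γ(X, (⊤ : X.Opens) ⊓ c₀.D)) :=
      congrFun (congrArg Subtype.val h0) c₀
    haveI : Nonempty c₀.D := hne
    have h2 : c₀.cdet ^ expo p n = 0 := by
      have hz : ∀ (E : X.Opens) (hE : E ≤ c₀.D), c₀.D = E → res hE (c₀.cdet ^ expo p n) = 0 →
          c₀.cdet ^ expo p n = 0 := by
        rintro E hE rfl h
        rwa [Ample.res_self] at h
      exact hz _ _ (top_inf_eq _).symm h1
    exact hc₀ (eq_zero_of_pow_eq_zero h2)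
  haveI : Nontrivial Γ((NegTwist.inv (C.pow (p ^ n - 1))).twist 1, ⊤) := ⟨⟨σ, 0, hσ⟩⟩
  have hbij : Function.Bijective (eN.hom.app ⊤) := (ConcreteCategory.isIso_iff_bijective _).1
    (Scheme.Modules.Hom.isIso_iff_isIso_app.1 (inferInstance : IsIso eN.hom) ⊤)
  haveI : Nontrivial Γ(N, ⊤) := hbij.2.nontrivial
  exact (ProjCoh.H0top N).toEquiv.nontrivial

end Main

end GrothLib.FrobLiftDet26

end
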