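import Groth.Agent.Lib.FrobLiftDet26.Descent
import Groth.Agent.Lib.CompleteCurve.P1
import Mathlib

/-!
# Morphisms from the projective line are constant
-/

set_option autoImplicit false
set_option maxHeartbeats 1000000
set_option linter.style.haveILetI false
set_option backward.isDefEq.respectTransparency false

universe u

open CategoryTheory CategoryTheory.Limits AlgebraicGeometry Opposite TopologicalSpace

noncomputable section

namespace GrothLib.FrobLiftDet26

open GrothLib.Ample (res)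
open RatLine (ι)

attribute [local instance 5000] RatLine.faithfulSMul'

variable {k : Type u} [Field k]

/-- The affine line in the projective line. -/
theorem exists_line : ∃ w : Spec (CommRingCat.of (Polynomial k)) ⟶ CohB1.ProjSpace 1 k,
    IsDominant w ∧
      w ≫ CohB1.ProjSpace.toSpec 1 k = Spec.map (CommRingCat.ofHom (Polynomial.C : k →+* Polynomial k)) := by
  let 𝒜 := CohB1.polyGrading 1 k
  haveI hint : IsIntegral (CohB1.ProjSpace 1 k) := ProjDim.isIntegral_proj k 1
  let x₀ : MvPolynomial (Fin 2) k := MvPolynomial.X 0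
  have hx₀ : x₀ ∈ 𝒜 1 := MvPolynomial.isHomogeneous_X _ _
  let f : MvPolynomial (Fin 2) k →+* Polynomial k :=
    (MvPolynomial.aeval ![(1 : Polynomial k), Polynomial.X]).toRingHom
  have hfx : f x₀ = 1 := by simp [f, x₀]
  have hu : IsUnit (f x₀) := hfx ▸ isUnit_one
  let ε := GrothLib.ProjPt.evalAway 𝒜 f x₀ hu
  have hεmk : ∀ n a ha, ε (HomogeneousLocalization.Away.mk 𝒜 hx₀ n a ha) = f a := fun n a ha => by
    have := GrothLib.ProjPt.evalAway_mk_spec 𝒜 f hx₀ hu n a ha
    rwa [hfx, one_pow, mul_one] at this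
  have hinj : Function.Injective ε := by
    rw [injective_iff_map_eq_zero]
    intro z hz
    obtain ⟨n, a, ha, rfl⟩ := HomogeneousLocalization.Away.mk_surjective 𝒜 hx₀ z
    rw [hεmk] at hz
    have ha0 : a = 0 := CompleteCurve.eq_zero_of_aeval_one_X ha hz
    subst ha0
    exact HomogeneousLocalization.val_injective _
      (by simp [HomogeneousLocalization.Away.val_mk, Localization.mk_zero])
  let A₀ := CommRingCat.of (HomogeneousLocalization.Away 𝒜 x₀)
  have : IsDomain A₀ := hinj.isDomain ε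
  let j : Spec A₀ ⟶ CohB1.ProjSpace 1 k := Proj.awayι 𝒜 x₀ hx₀ one_pos
  haveI hj : IsOpenImmersion j := inferInstanceAs (IsOpenImmersion (Proj.awayι 𝒜 x₀ hx₀ one_pos))
  refine ⟨Spec.map (CommRingCat.ofHom ε) ≫ j, ⟨?_⟩, ?_⟩
  · let z : Spec (CommRingCat.of (Polynomial k)) := ⟨⊥, Ideal.isPrime_bot⟩
    have hpt : (Spec.map (CommRingCat.ofHom ε) ≫ j) z = genericPoint (CohB1.ProjSpace 1 k) := by
      rw [← genericPoint_eq_of_isOpenImmersion j, genericPoint_eq_bot_of_affine]
      show j (Spec.map (CommRingCat.ofHom ε) z) = j _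
      congr 1
      refine PrimeSpectrum.ext ?_
      exact Ideal.comap_bot_of_injective _ hinj
    intro y
    have h1 : genericPoint (CohB1.ProjSpace 1 k) ⤳ y := (genericPoint_spec _).specializes trivial
    exact closure_mono (by rintro _ rfl; exact ⟨z, hpt⟩) (specializes_iff_mem_closure.1 h1)
  · show (Spec.map _ ≫ Proj.awayι 𝒜 x₀ hx₀ one_pos) ≫ Proj.toSpecZero 𝒜 ≫ Spec.map _ = _
    rw [Category.assoc, Proj.awayι_toSpecZero_assoc, ← Spec.map_comp, ← Spec.map_comp]
    congr 1
    refine CommRingCat.hom_ext (RingHom.ext fun c => ?_)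
    show ε (HomogeneousLocalization.fromZeroRingHom 𝒜 _ (algebraMap k (𝒜 0) c)) = Polynomial.C c
    have e : HomogeneousLocalization.fromZeroRingHom 𝒜 (Submonoid.powers x₀) (algebraMap k (𝒜 0) c) =
        HomogeneousLocalization.Away.mk 𝒜 hx₀ 0 (algebraMap k (𝒜 0) c).1
          (by rw [zero_smul]; exact (algebraMap k (𝒜 0) c).2) := by
      refine HomogeneousLocalization.val_injective _ ?_
      rw [HomogeneousLocalization.Away.val_mk]
      simp only [HomogeneousLocalization.fromZeroRingHom]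
      exact HomogeneousLocalization.val_mk _
    rw [e, hεmk]
    show MvPolynomial.aeval ![(1 : Polynomial k), Polynomial.X] (MvPolynomial.C c) = _
    simp

section Points

variable {X : Scheme.{u}} {S : Type u} [CommRing S]

/-- The ring map of a point landing in an open. -/
def pointMap (w : Spec (CommRingCat.of S) ⟶ X) (D : X.Opens) (h : ⊤ ≤ w ⁻¹ᵁ D) : Γ(X, D) →+* S :=
  (w.appLE D ⊤ h ≫ (Scheme.ΓSpecIso (CommRingCat.of S)).hom).hom

theorem pointMap_comp {T : Type u} [CommRing T] (j : S →+* T) (w : Spec (CommRingCat.of S) ⟶ X)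
    (w' : Spec (CommRingCat.of T) ⟶ X) (hw : w' = Spec.map (CommRingCat.ofHom j) ≫ w) (D : X.Opens)
    (h : ⊤ ≤ w ⁻¹ᵁ D) (h' : ⊤ ≤ w' ⁻¹ᵁ D) (x : Γ(X, D)) : pointMap w' D h' x = j (pointMap w D h x) := by
  subst hw
  show ((Spec.map (CommRingCat.ofHom j) ≫ w).appLE D ⊤ h' ≫ (Scheme.ΓSpecIso _).hom) x =
    (w.appLE D ⊤ h ≫ (Scheme.ΓSpecIso _).hom ≫ CommRingCat.ofHom j) x
  rw [← Scheme.ΓSpecIso_naturality, ← Scheme.Hom.appLE_comp_appLE (Spec.map (CommRingCat.ofHom j)) w D ⊤ ⊤ h le_top]
  erw [Scheme.Hom.appLE_eq_app]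
  rw [Category.assoc]

theorem pointMap_res (w : Spec (CommRingCat.of S) ⟶ X) {D E : X.Opens} (hE : E ≤ D) (h : ⊤ ≤ w ⁻¹ᵁ E)
    (x : Γ(X, D)) : pointMap w E h (res hE x) = pointMap w D (h.trans (w.preimage_mono hE)) x := by
  show (X.presheaf.map (homOfLE hE).op ≫ w.appLE E ⊤ h ≫ _) x = _
  rw [← Category.assoc, Scheme.Hom.map_appLE]
  rfl

theorem pointMap_const (f : X ⟶ Spec (CommRingCat.of k)) (w : Spec (CommRingCat.of S) ⟶ X) (φ : k →+* S)
    (hw : w ≫ f = Spec.map (CommRingCat.ofHom φ)) (D : X.Opens) (h : ⊤ ≤ w ⁻¹ᵁ D)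
    (r : Γ(Spec (CommRingCat.of k), ⊤)) :
    pointMap w D h (f.appLE ⊤ D le_top r) = φ ((Scheme.ΓSpecIso (CommRingCat.of k)).hom r) := by
  have key : ∀ (g : Spec (CommRingCat.of S) ⟶ Spec (CommRingCat.of k)), g = w ≫ f →
      (g.appTop ≫ (Scheme.ΓSpecIso (CommRingCat.of S)).hom) r = pointMap w D h (f.appLE ⊤ D le_top r) := by
    rintro g rfl
    show _ = (f.appLE ⊤ D le_top ≫ w.appLE D ⊤ h ≫ _) r
    rw [← Category.assoc, Scheme.Hom.appLE_comp_appLE]
    erw [Scheme.Hom.appLE_eq_app]
  rw [← key _ hw.symm, Scheme.ΓSpecIso_naturality]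
  rfl

end Points

variable {p : ℕ} [Fact p.Prime] [IsAlgClosed k] [CharP k p] {X : Scheme.{u}}
  [FrobSch.IsCharP X p] {f : X ⟶ Spec (CommRingCat.of k)} [IsProper f] (L : Lift p f) {d : ℕ}

theorem exists_factor (hu : ∀ c : Chart L (d := d), IsUnit c.cdet)
    (hch : ∀ x : X, ∃ c : Chart L (d := d), x ∈ c.D) (u : CohB1.ProjSpace 1 k ⟶ X)
    (huf : u ≫ f = CohB1.ProjSpace.toSpec 1 k) :
    ∃ x : Spec (CommRingCat.of k) ⟶ X, x ≫ f = 𝟙 _ ∧ u = CohB1.ProjSpace.toSpec 1 k ≫ x := by
  classical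
  obtain ⟨w, hwd, hw⟩ := exists_line (k := k)
  let u₀ : Spec (CommRingCat.of (Polynomial k)) ⟶ X := w ≫ u
  have hu₀ : u₀ ≫ f = Spec.map (CommRingCat.ofHom (Polynomial.C : k →+* Polynomial k)) := by
    show (w ≫ u) ≫ f = _
    rw [Category.assoc, huf, hw]
  let κ : k →+* RatFunc k := (ι k).comp Polynomial.C
  let η : Spec (CommRingCat.of (RatFunc k)) ⟶ X := Spec.map (CommRingCat.ofHom (ι k)) ≫ u₀
  have hη : η ≫ f = Spec.map (CommRingCat.ofHom κ) := by
    show (_ ≫ _) ≫ _ = _
    rw [Category.assoc, hu₀, ← Spec.map_comp]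
    rfl
  let z : Spec (CommRingCat.of (RatFunc k)) := IsLocalRing.closedPoint (RatFunc k)
  let y₀ : X := η z
  have htop : ∀ (D : X.Opens), y₀ ∈ D → ⊤ ≤ η ⁻¹ᵁ D := fun D hD x _ => by
    show η x ∈ D
    rw [Subsingleton.elim (α := PrimeSpectrum (RatFunc k)) x z]
    exact hD
  -- the pieces of the affine line
  have hpieces : ∀ x : Spec (CommRingCat.of (Polynomial k)), ∃ (g : Polynomial k) (c : Chart L (d := d)),
      g ∉ x.asIdeal ∧ g ≠ 0 ∧ y₀ ∈ c.D ∧ ((PrimeSpectrum.basicOpen g : Set (PrimeSpectrum (Polynomial k))) ⊆ u₀ ⁻¹' c.D) := by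
    intro x
    obtain ⟨c, hc⟩ := hch (u₀ x)
    obtain ⟨_, ⟨g, rfl⟩, hxg, hg⟩ := PrimeSpectrum.isTopologicalBasis_basic_opens.exists_subset_of_mem_open
      (a := x) hc ((u₀ ⁻¹ᵁ c.D).2)
    have hg0 : g ≠ 0 := fun h => hxg (h ▸ Ideal.zero_mem _)
    refine ⟨g, c, hxg, hg0, ?_, hg⟩
    refine hg (?_ : g ∉ Ideal.comap (ι k) (IsLocalRing.maximalIdeal (RatFunc k)))
    rw [IsLocalRing.maximalIdeal_eq_bot, Ideal.mem_comap, Ideal.mem_bot]
    exact RatFunc.algebraMap_ne_zero hg0
  choose g cg hgx hg0 hyg hgsub using hpieces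
  have hspan : Ideal.span (Set.range g) = ⊤ := by
    by_contra hne
    obtain ⟨m, hm, hle⟩ := Ideal.exists_le_maximal _ hne
    exact hgx ⟨m, hm.isPrime⟩ (hle (Ideal.subset_span ⟨_, rfl⟩))
  obtain ⟨s, hs, hs1⟩ := (Ideal.span_eq_top_iff_finite _).1 hspan
  have hsg : ∀ h ∈ s, ∃ x, g x = h := fun h hh => hs hh
  choose xs hxs using hsg
  -- the valuation ring at infinity
  let P₀ : Ideal (Polynomial k) := Ideal.span {Polynomial.X}
  haveI hP₀ : P₀.IsPrime := inferInstanceAs (Ideal.span {(Polynomial.X : Polynomial k)}).IsPrime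
  let R := Localization.AtPrime P₀
  haveI : IsDiscreteValuationRing R := IsLocalization.AtPrime.isDiscreteValuationRing_of_dedekind_domain
    (Polynomial k) (by rw [Ne, Ideal.span_singleton_eq_bot]; exact Polynomial.X_ne_zero) R
  letI algR : Algebra R (RatFunc k) :=
    (IsLocalization.lift (M := P₀.primeCompl) (g := ι k) (fun b => isUnit_iff_ne_zero.2
      (RatFunc.algebraMap_ne_zero fun h0 => b.2 (by rw [h0]; exact P₀.zero_mem)))).toAlgebra
  letI : SMul R (RatFunc k) := algR.toSMul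
  haveI htow : IsScalarTower (Polynomial k) R (RatFunc k) := IsScalarTower.of_algebraMap_eq fun q =>
    (IsLocalization.lift_eq _ q).symm
  haveI : IsFractionRing R (RatFunc k) :=
    IsFractionRing.isFractionRing_of_isDomain_of_isLocalization P₀.primeCompl R (RatFunc k)
  have hmap : ∀ q : Polynomial k, algebraMap R (RatFunc k) (algebraMap (Polynomial k) R q) = ι k q := fun q =>
    (IsScalarTower.algebraMap_apply (Polynomial k) R (RatFunc k) q).symm
  let η' : Spec (CommRingCat.of (RatFunc k)) ⟶ X := Spec.map (CommRingCat.ofHom (RatLine.inv k)) ≫ η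
  let κR : k →+* R := (algebraMap (Polynomial k) R).comp Polynomial.C
  have hsq : CommSq η' (Spec.map (CommRingCat.ofHom (algebraMap R (RatFunc k)))) f
      (Spec.map (CommRingCat.ofHom κR)) := by
    constructor
    show (_ ≫ η) ≫ f = _
    rw [Category.assoc, hη, ← Spec.map_comp, ← Spec.map_comp]
    congr 1
    ext c
    show RatLine.inv k (ι k (Polynomial.C c)) = algebraMap R (RatFunc k) (algebraMap (Polynomial k) R _)
    rw [RatLine.inv_C, hmap]
    rfl
  have hE : ValuativeCriterion.Existence f := by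
    have h : UniversallyClosed f := inferInstance
    rw [UniversallyClosed.eq_valuativeCriterion] at h
    exact h.1
  obtain ⟨⟨l, hl1', hl2⟩⟩ := (hE { R := R, K := RatFunc k, i₁ := η', i₂ := _, commSq := hsq }).exists_lift
  have hl1 : Spec.map (CommRingCat.ofHom (algebraMap R (RatFunc k))) ≫ l = η' := hl1'
  obtain ⟨cinf, hcinf⟩ := hch (l (IsLocalRing.closedPoint R))
  have hltop : ⊤ ≤ l ⁻¹ᵁ cinf.D := fun x _ => by
    have h1 : x ⤳ IsLocalRing.closedPoint R :=
      (PrimeSpectrum.le_iff_specializes _ _).1 (IsLocalRing.le_maximalIdeal x.2.ne_top)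
    exact (l ⁻¹ᵁ cinf.D).2.stableUnderGeneralization h1 hcinf
  have hyinf : y₀ ∈ cinf.D := by
    have hη'z : η' z ∈ cinf.D := by
      rw [← hl1]
      exact hltop (x := Spec.map (CommRingCat.ofHom (algebraMap R (RatFunc k))) z) trivial
    have : η' z = y₀ := by
      show η _ = η z
      exact congrArg η (Subsingleton.elim (α := PrimeSpectrum (RatFunc k)) _ _)
    rwa [this] at hη'z
  let Q : Pt L (d := d) y₀ :=
    { h := fun c hc => pointMap η c.D (htop c.D hc)
      compat := fun a b ha hb hle x => pointMap_res η (L.i.preimage_mono hle) _ x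
      consts := fun c hc r => ⟨_, pointMap_const f η κ hη c.D (htop c.D hc) r⟩
      s := s
      span_s := hs1
      cs := fun h hh => cg (xs h hh)
      mem_cs := fun h hh => hyg _
      loc := fun h hh x => by
        let S := Localization.Away h
        have hh0 : h ≠ 0 := by rw [← hxs h hh]; exact hg0 _
        have hju : IsUnit (ι k h) := isUnit_iff_ne_zero.2 (RatFunc.algebraMap_ne_zero hh0)
        let j : S →+* RatFunc k := IsLocalization.Away.lift h hju
        let v : Spec (CommRingCat.of S) ⟶ X := Spec.map (CommRingCat.ofHom (algebraMap (Polynomial k) S)) ≫ u₀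
        have hv : ⊤ ≤ v ⁻¹ᵁ (cg (xs h hh)).D := fun y _ => by
          refine hgsub _ (?_ : Spec.map (CommRingCat.ofHom (algebraMap (Polynomial k) S)) y ∈ _)
          rw [hxs h hh]
          have : PrimeSpectrum.comap (algebraMap (Polynomial k) S) y ∈
              Set.range (PrimeSpectrum.comap (algebraMap (Polynomial k) S)) := ⟨y, rfl⟩
          rw [PrimeSpectrum.localization_away_comap_range S h] at this
          exact this
        have hηv : η = Spec.map (CommRingCat.ofHom j) ≫ v := by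
          show Spec.map (CommRingCat.ofHom (ι k)) ≫ u₀ = _ ≫ _ ≫ u₀
          rw [← Category.assoc (Spec.map (CommRingCat.ofHom j)), ← Spec.map_comp]
          congr 2
          refine CommRingCat.hom_ext (RingHom.ext fun q => ?_)
          exact (IsLocalization.Away.lift_eq h hju q).symm
        show LocAt h (pointMap η _ _ x)
        rw [pointMap_comp j v η hηv _ hv]
        obtain ⟨⟨b, m⟩, hb⟩ := IsLocalization.surj (Submonoid.powers h) (pointMap v _ hv x)
        obtain ⟨N, hN⟩ := m.2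
        refine ⟨N, b, ?_⟩
        have e := congrArg j hb
        rw [map_mul, IsLocalization.Away.lift_eq, IsLocalization.Away.lift_eq, ← hN, map_pow] at e
        exact e
      cinf := cinf
      mem_inf := hyinf
      reg_inf := fun x => by
        show RatLine.Reg _ (RatLine.inv k (pointMap η _ _ x))
        have h2 := pointMap_comp (RatLine.inv k) η η' rfl cinf.D (htop _ hyinf)
          (fun y _ => by rw [← hl1]; exact hltop trivial) x
        rw [← h2, pointMap_comp (algebraMap R (RatFunc k)) l η' hl1.symm cinf.D hltop]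
        obtain ⟨⟨b, m⟩, hb⟩ := IsLocalization.surj P₀.primeCompl (pointMap l cinf.D hltop x)
        refine ⟨b, m, m.2, ?_⟩
        have e := congrArg (algebraMap R (RatFunc k)) hb
        rwa [map_mul, hmap, hmap] at e }
  -- the constant point
  obtain ⟨c, hc⟩ := hch y₀
  have hconst := exists_const Q hu c hc
  choose μ hμ using hconst
  have hinj : Function.Injective κ := κ.injective
  let χ : Γ(X, c.D) →+* k :=
    { toFun := μ
      map_one' := hinj (((hμ 1).symm.trans (map_one _)).trans (map_one κ).symm)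
      map_mul' := fun a b => hinj (by
        show ι k (Polynomial.C (μ (a * b))) = κ (μ a * μ b)
        rw [← hμ, map_mul, map_mul, hμ, hμ]
        rfl)
      map_zero' := hinj (((hμ 0).symm.trans (map_zero _)).trans (map_zero κ).symm)
      map_add' := fun a b => hinj (by
        show ι k (Polynomial.C (μ (a + b))) = κ (μ a + μ b)
        rw [← hμ, map_add, map_add, hμ, hμ]
        rfl) }
  let x₀ : Spec (CommRingCat.of k) ⟶ X := Spec.map (CommRingCat.ofHom χ) ≫ c.aff.2.fromSpec
  have hηx : η = Spec.map (CommRingCat.ofHom κ) ≫ x₀ := by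
    have hfac : η = Spec.map (CommRingCat.ofHom (pointMap η c.D (htop c.D hc))) ≫ c.aff.2.fromSpec := by
      have e := IsAffineOpen.SpecMap_appLE_fromSpec η c.aff.2 (isAffineOpen_top _) (htop c.D hc)
      rw [IsAffineOpen.fromSpec_top] at e
      show _ = Spec.map (η.appLE c.D ⊤ _ ≫ (Scheme.ΓSpecIso _).hom) ≫ _
      rw [Spec.map_comp, Category.assoc, e, Scheme.isoSpec_Spec_inv, ← Category.assoc, ← Spec.map_comp]
      simp
    refine hfac.trans ?_
    show _ = _ ≫ _ ≫ _
    rw [← Category.assoc, ← Spec.map_comp]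
    congr 3
    exact RingHom.ext fun a => hμ a
  have hx₀ : x₀ ≫ f = 𝟙 _ := by
    have h1 : Spec.map (CommRingCat.ofHom κ) ≫ (x₀ ≫ f) = Spec.map (CommRingCat.ofHom κ) ≫ 𝟙 _ := by
      rw [← Category.assoc, ← hηx, hη, Category.comp_id]
    obtain ⟨φ, hφ⟩ : ∃ φ, Spec.map φ = x₀ ≫ f := ⟨Spec.preimage _, Spec.map_preimage _⟩
    rw [← hφ, Category.comp_id, ← Spec.map_comp] at h1
    have h2 := Spec.map_injective h1
    rw [← hφ, ← Spec.map_id]
    congr 1
    ext a
    exact hinj (congr($h2 a))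
  refine ⟨x₀, hx₀, ?_⟩
  haveI : IsReduced (CohB1.ProjSpace 1 k) :=
    haveI : IsIntegral (CohB1.ProjSpace 1 k) := ProjDim.isIntegral_proj k 1
    inferInstance
  haveI : IsDominant (Spec.map (CommRingCat.ofHom (ι k))) := by
    refine ⟨?_⟩
    exact (PrimeSpectrum.denseRange_comap_iff_ker_le_nilRadical _).2
      (le_of_eq_of_le ((RingHom.injective_iff_ker_eq_bot _).1 (RatFunc.algebraMap_injective k)) bot_le)
  haveI := hwd
  refine ext_of_isDominant_of_isSeparated f (by rw [huf, Category.assoc, hx₀, Category.comp_id])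
    (Spec.map (CommRingCat.ofHom (ι k)) ≫ w) ?_
  calc (Spec.map (CommRingCat.ofHom (ι k)) ≫ w) ≫ u = η := by rw [Category.assoc]
    _ = Spec.map (CommRingCat.ofHom κ) ≫ x₀ := hηx
    _ = _ := by
      conv_rhs => rw [Category.assoc, ← Category.assoc w, hw, ← Category.assoc, ← Spec.map_comp]
      rfl

end GrothLib.FrobLiftDet26

end
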