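import Groth.Prelude.Def_Frob
import Groth.Agent.Lib.FrobLiftDet26.Alg
import Groth.Agent.Lib.W2Lift.Basic
import Groth.Agent.Lib.NcdLift26.Geom
import Groth.Agent.Lib.OmAff9.Basic
import Groth.Agent.Lib.TensorGen.Det
import Mathlib

/-!
# The semilinear endomorphism of differentials attached to a lift of Frobenius over `W₂(k)`
-/

set_option autoImplicit false
set_option maxHeartbeats 1000000
set_option linter.style.haveILetI false
set_option backward.isDefEq.respectTransparency false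

universe u

open CategoryTheory CategoryTheory.Limits AlgebraicGeometry Opposite TopologicalSpace

noncomputable section

namespace GrothLib.FrobLiftDet26

open GrothLib.InvExt (mres)

theorem mres_add {X : Scheme.{u}} (M : X.Modules) {V W : X.Opens} (h : W ≤ V) (a b : Γ(M, V)) :
    mres M h (a + b) = mres M h a + mres M h b :=
  map_add _ _ _

theorem mres_zero {X : Scheme.{u}} (M : X.Modules) {V W : X.Opens} (h : W ≤ V) :
    mres M h (0 : Γ(M, V)) = 0 :=
  map_zero _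

/-- The data of a lift of a variety with its Frobenius over the Witt vectors of length two. -/
structure Lift (p : ℕ) [Fact p.Prime] {k : Type u} [Field k] [IsAlgClosed k] [CharP k p] {X : Scheme.{u}}
    [FrobSch.IsCharP X p] (f : X ⟶ Spec (CommRingCat.of k)) where
  /-- the lifted scheme -/
  Xl : Scheme.{u}
  /-- its structure morphism -/
  g : Xl ⟶ Spec (CommRingCat.of (FrobAlg.W2 p k))
  flat : Flat g
  /-- the reduction -/
  i : X ⟶ Xl
  sq : IsPullback i f g (Spec.map (CommRingCat.ofHom (FrobAlg.res p k)))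
  /-- the lift of Frobenius -/
  Fl : Xl ⟶ Xl
  hF : i ≫ Fl = FrobSch.frob X p ≫ i

variable {p : ℕ} [Fact p.Prime] {k : Type u} [Field k] [IsAlgClosed k] [CharP k p] {X : Scheme.{u}}
  [FrobSch.IsCharP X p] {f : X ⟶ Spec (CommRingCat.of k)} (L : Lift p f)

theorem isClosedImmersion_res : IsClosedImmersion (Spec.map (CommRingCat.ofHom (FrobAlg.res p k))) :=
  IsClosedImmersion.spec_of_surjective _ W2Lift.res_surjective

theorem surjective_res : Surjective (Spec.map (CommRingCat.ofHom (FrobAlg.res p k))) := by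
  constructor
  intro x
  suffices h : x ∈ Set.range (PrimeSpectrum.comap (FrobAlg.res p k)) from h
  rw [range_comap_of_surjective _ _ W2Lift.res_surjective, PrimeSpectrum.mem_zeroLocus]
  intro z hz
  obtain ⟨y, rfl⟩ := W2Lift.exists_eq_mul_p (RingHom.mem_ker.1 hz)
  refine Ideal.mul_mem_left _ _ (x.isPrime.mem_of_pow_mem 2 ?_)
  rw [pow_two, W2Lift.p_mul_p]
  exact zero_mem _

theorem Lift.isClosedImmersion_i : IsClosedImmersion L.i :=
  MorphismProperty.of_isPullback L.sq.flip isClosedImmersion_res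

theorem Lift.surjective_i : Surjective L.i :=
  MorphismProperty.of_isPullback L.sq.flip surjective_res

theorem Lift.preimage_Fl (V : L.Xl.Opens) : L.Fl ⁻¹ᵁ V = V := by
  ext y
  obtain ⟨x, rfl⟩ := (L.surjective_i).surj y
  have h : L.Fl (L.i x) = L.i x := by
    rw [← Scheme.Hom.comp_apply, L.hF, Scheme.Hom.comp_apply, FrobSch.frob_apply]
  show L.Fl (L.i x) ∈ V ↔ _
  rw [h]
  rfl

theorem Lift.isAffineOpen {V : L.Xl.Opens} (hV : IsAffineOpen V) : IsAffineOpen (L.i ⁻¹ᵁ V) :=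
  haveI := L.isClosedImmersion_i
  hV.preimage L.i

/-- Affine opens of the lift fit into any open around a point. -/
theorem Lift.exists_affine (x : X) (U : X.Opens) (hx : x ∈ U) :
    ∃ V : L.Xl.Opens, IsAffineOpen V ∧ x ∈ L.i ⁻¹ᵁ V ∧ L.i ⁻¹ᵁ V ≤ U := by
  haveI := L.isClosedImmersion_i
  obtain ⟨O, hO, hOU⟩ := L.i.isClosedEmbedding.isInducing.isOpen_iff.1 U.2
  have hxO : L.i x ∈ O := by
    have : x ∈ L.i ⁻¹' O := hOU.symm ▸ hx
    exact this
  obtain ⟨V, hV, hxV, hVO⟩ := exists_isAffineOpen_mem_and_subset (X := L.Xl) (x := L.i x) (U := ⟨O, hO⟩) hxO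
  refine ⟨V, hV, hxV, fun y hy => ?_⟩
  have : y ∈ L.i ⁻¹' O := hVO hy
  rw [hOU] at this
  exact this

/-- The endomorphism of sections induced by the lift of Frobenius. -/
abbrev Lift.Φ (V : L.Xl.Opens) : Γ(L.Xl, V) →+* Γ(L.Xl, V) :=
  (L.Fl.appLE V V (L.preimage_Fl V).ge).hom

theorem Lift.res_Φ {V W : L.Xl.Opens} (h : W ≤ V) (b : Γ(L.Xl, V)) :
    L.Xl.presheaf.map (homOfLE h).op (L.Φ V b) = L.Φ W (L.Xl.presheaf.map (homOfLE h).op b) := by
  show (L.Fl.appLE V V _ ≫ L.Xl.presheaf.map (homOfLE h).op) b =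
    (L.Xl.presheaf.map (homOfLE h).op ≫ L.Fl.appLE W W _) b
  rw [Scheme.Hom.appLE_map, Scheme.Hom.map_appLE]

theorem Lift.ker_app {V : L.Xl.Opens} (hV : IsAffineOpen V) :
    RingHom.ker (L.i.app V).hom ≤ Ideal.span {(p : Γ(L.Xl, V))} := by
  haveI := L.isClosedImmersion_i
  let red := Spec.map (CommRingCat.ofHom (FrobAlg.res p k))
  have h' : IsPullback (L.i ∣_ V) ((L.i ⁻¹ᵁ V).ι ≫ f) (V.ι ≫ L.g) red :=
    (isPullback_morphismRestrict L.i V).paste_vert L.sq
  haveI : IsAffine V.toScheme := hV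
  have hpo := isPushout_appTop_of_isPullback h'
  have hredC : Function.Surjective red.appTop.hom := by
    have e : (Scheme.ΓSpecIso _).inv ≫ red.appTop = CommRingCat.ofHom (FrobAlg.res p k) ≫ (Scheme.ΓSpecIso _).inv :=
      (Scheme.ΓSpecIso_inv_naturality (CommRingCat.ofHom (FrobAlg.res p k))).symm
    intro z
    obtain ⟨w, hw⟩ := W2Lift.res_surjective (p := p) (k := k) ((Scheme.ΓSpecIso _).hom z)
    refine ⟨(Scheme.ΓSpecIso _).inv w, ?_⟩
    refine (congr($e w)).trans ?_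
    rw [CommRingCat.comp_apply]
    show (Scheme.ΓSpecIso _).inv (FrobAlg.res p k w) = z
    rw [hw, ← CommRingCat.comp_apply, Iso.hom_inv_id]
    rfl
  have hk := NcdLift26.ker_le_of_isPushout hpo hredC
  have hred : RingHom.ker red.appTop.hom ≤
      Ideal.span {((p : ℕ) : Γ(Spec (CommRingCat.of (FrobAlg.W2 p k)), ⊤))} := by
    intro z hz
    have e : red.appTop ≫ (Scheme.ΓSpecIso _).hom = (Scheme.ΓSpecIso _).hom ≫ CommRingCat.ofHom (FrobAlg.res p k) :=
      Scheme.ΓSpecIso_naturality (CommRingCat.ofHom (FrobAlg.res p k))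
    have : FrobAlg.res p k ((Scheme.ΓSpecIso _).hom z) = 0 := by
      have := congr($e z)
      rw [CommRingCat.comp_apply, CommRingCat.comp_apply, show red.appTop z = 0 from hz, map_zero] at this
      exact this.symm
    obtain ⟨c, hc⟩ := W2Lift.exists_eq_mul_p this
    refine Ideal.mem_span_singleton'.2 ⟨(Scheme.ΓSpecIso _).inv c, ?_⟩
    have := congrArg (Scheme.ΓSpecIso (CommRingCat.of (FrobAlg.W2 p k))).inv hc
    rw [map_mul, map_natCast, ← CommRingCat.comp_apply, Iso.hom_inv_id] at this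
    exact this.symm
  have hk2 : RingHom.ker (L.i ∣_ V).appTop.hom ≤ Ideal.span {((p : ℕ) : Γ(V.toScheme, ⊤))} :=
    hk.trans ((Ideal.map_mono hred).trans (by rw [Ideal.map_span, Set.image_singleton, map_natCast]))
  intro z hz
  have he : (L.i ∣_ V).appTop = V.topIso.hom ≫ L.i.app V ≫ (L.i ⁻¹ᵁ V).topIso.inv := by
    simp [Scheme.Opens.topIso_hom, Scheme.Opens.topIso_inv, Scheme.Hom.appTop, Scheme.Hom.appLE,
      ← Functor.map_comp]
    rfl
  have hz' : V.topIso.inv z ∈ RingHom.ker (L.i ∣_ V).appTop.hom := by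
    rw [RingHom.mem_ker]
    show (L.i ∣_ V).appTop (V.topIso.inv z) = 0
    rw [he, CommRingCat.comp_apply, CommRingCat.comp_apply, ← CommRingCat.comp_apply V.topIso.inv,
      Iso.inv_hom_id, CommRingCat.id_apply, show L.i.app V z = 0 from hz, map_zero]
  obtain ⟨c, hc⟩ := Ideal.mem_span_singleton'.1 (hk2 hz')
  refine Ideal.mem_span_singleton'.2 ⟨V.topIso.hom c, ?_⟩
  have := congrArg V.topIso.hom hc
  rw [map_mul, map_natCast, ← CommRingCat.comp_apply, Iso.inv_hom_id] at this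
  exact this

/-- An affine open of the lift gives a lifting system. -/
theorem Lift.isLiftSys {V : L.Xl.Opens} (hV : IsAffineOpen V) :
    IsLiftSys p (L.i.app V).hom (L.Φ V) := by
  haveI := L.isClosedImmersion_i
  haveI := L.flat
  let q : FrobAlg.W2 p k →+* Γ(L.Xl, V) :=
    ((Scheme.ΓSpecIso (CommRingCat.of (FrobAlg.W2 p k))).inv ≫ L.g.appLE ⊤ V le_top).hom
  have hp0 : L.i.app V (p : Γ(L.Xl, V)) = 0 := by
    rw [map_natCast]
    exact FrobSch.natCast_eq_zero_app X p _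
  have hdiv : ∀ b, L.i.app V b = 0 → ∃ c, b = (p : Γ(L.Xl, V)) * c := fun b hb => by
    obtain ⟨c, hc⟩ := Ideal.mem_span_singleton'.1 (L.ker_app hV hb)
    exact ⟨c, by rw [← hc, mul_comm]⟩
  refine ⟨L.i.app_surjective V hV, hp0, W2Lift.p_mul_p_of_hom q, hdiv, fun b hb => ?_, fun b => ?_⟩
  · have hq : q.Flat := RingHom.Flat.comp (RingHom.Flat.of_bijective
      (ConcreteCategory.bijective_of_isIso (Scheme.ΓSpecIso _).inv)) (L.g.flat_appLE (isAffineOpen_top _) hV le_top)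
    obtain ⟨c, hc⟩ := (W2Lift.flat_ringHom_iff q).1 hq b hb
    show L.i.app V b = 0
    rw [hc, map_mul, hp0, zero_mul]
  · show L.i.app V (L.Φ V b) = L.i.app V b ^ p
    have h0 : ∀ (F G : X ⟶ L.Xl) (e : F = G) (hF : L.i ⁻¹ᵁ V ≤ F ⁻¹ᵁ V),
        F.appLE V (L.i ⁻¹ᵁ V) hF = G.appLE V (L.i ⁻¹ᵁ V) (e ▸ hF) := by
      rintro F G rfl hF; rfl
    have h1 := congr($(h0 _ _ L.hF (by rw [Scheme.Hom.comp_preimage, L.preimage_Fl])) b)
    rw [← Scheme.Hom.appLE_comp_appLE L.i L.Fl V V (L.i ⁻¹ᵁ V) (L.preimage_Fl V).ge le_rfl,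
      ← Scheme.Hom.appLE_comp_appLE (FrobSch.frob X p) L.i V (L.i ⁻¹ᵁ V) (L.i ⁻¹ᵁ V) le_rfl le_rfl,
      CommRingCat.comp_apply, CommRingCat.comp_apply, Scheme.Hom.appLE_eq_app] at h1
    erw [Scheme.Hom.appLE_eq_app] at h1
    exact h1.trans (FrobSch.frob_app X p _ _)

section Xi

variable [QuasiSeparated f]

/-- The derivation on sections. -/
def dDer (U : X.Opens) : Derivation ℤ Γ(X, U) Γ(Omega.sheaf f, U) :=
  Derivation.mk' (AddMonoidHom.mk' (OmegaSh.dSect f U) (OmegaSh.dSect_add f U)).toIntLinearMap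
    (OmegaSh.dSect_mul f U)

theorem dDer_apply (U : X.Opens) (a : Γ(X, U)) : dDer (f := f) U a = OmegaSh.dSect f U a := rfl

omit [Fact p.Prime] [IsAlgClosed k] [CharP k p] [FrobSch.IsCharP X p] in
theorem span_dSect {U : X.Opens} (hU : IsAffineOpen U) (m : Γ(Omega.sheaf f, U)) :
    m ∈ Submodule.span Γ(X, U) (Set.range (OmegaSh.dSect f U)) := by
  obtain ⟨z, rfl⟩ := (OmAff9.bijective_toSect f hU (isAffineOpen_top _) le_top).2 m
  letI : Algebra Γ(Spec (CommRingCat.of k), ⊤) Γ(X, U) := (f.appLE ⊤ U le_top).hom.toAlgebra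
  have hz : z ∈ Submodule.span Γ(X, U)
      (Set.range (KaehlerDifferential.D Γ(Spec (CommRingCat.of k), ⊤) Γ(X, U))) := by
    rw [KaehlerDifferential.span_range_derivation]; trivial
  induction hz using Submodule.span_induction with
  | mem y hy =>
    obtain ⟨b, rfl⟩ := hy
    exact Submodule.subset_span ⟨b, (OmAff.toSect_d f ⊤ U le_top b).symm⟩
  | zero =>
    erw [map_zero]
    exact zero_mem _
  | add a b _ _ ha hb =>
    erw [map_add]
    exact Submodule.add_mem _ ha hb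
  | smul c a _ ha =>
    erw [map_smul]
    exact Submodule.smul_mem _ c ha

/-- The characterisation of the semilinear map on an open of the lift. -/
structure Lift.IsXi (V : L.Xl.Opens) (ξ : Γ(Omega.sheaf f, L.i ⁻¹ᵁ V) → Γ(Omega.sheaf f, L.i ⁻¹ᵁ V)) : Prop where
  add : ∀ m m', ξ (m + m') = ξ m + ξ m'
  smul : ∀ (a : Γ(X, L.i ⁻¹ᵁ V)) m, ξ (a • m) = a ^ p • ξ m
  dval : ∀ (b F : Γ(L.Xl, V)), L.Φ V b = b ^ p + (p : Γ(L.Xl, V)) * F →
    ξ (OmegaSh.dSect f _ (L.i.app V b)) =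
      L.i.app V b ^ (p - 1) • OmegaSh.dSect f _ (L.i.app V b) + OmegaSh.dSect f _ (L.i.app V F)

theorem Lift.exists_xi {V : L.Xl.Opens} (hV : IsAffineOpen V) : ∃ ξ, L.IsXi V ξ := by
  let U := L.i ⁻¹ᵁ V
  have hU : IsAffineOpen U := L.isAffineOpen hV
  have h := L.isLiftSys hV
  let σ := FrobSch.powHom p Γ(X, U) (FrobSch.natCast_eq_zero_app X p U)
  let d := dDer (f := f) U
  letI alg : Algebra Γ(Spec (CommRingCat.of k), ⊤) Γ(X, U) := (f.appLE ⊤ U le_top).hom.toAlgebra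
  have hR : ∀ r, h.twist d (algebraMap Γ(Spec (CommRingCat.of k), ⊤) Γ(X, U) r) = 0 := by
    intro r
    let e := (Scheme.ΓSpecIso (CommRingCat.of k)).commRingCatIsoToRingEquiv
    obtain ⟨s, hs⟩ := IsAlgClosed.exists_pow_nat_eq (e r) (Fact.out : p.Prime).pos
    have : r = e.symm s ^ p := by rw [← map_pow, hs, RingEquiv.symm_apply_apply]
    rw [this, map_pow]
    exact h.twist_pow_p d _
  obtain ⟨E, hE, hEs⟩ := exists_semilinear σ Γ(Spec (CommRingCat.of k), ⊤) (h.twist d) (h.twist_add d)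
    (h.twist_mul d) hR
  have hb : Function.Bijective (OmAff.toSect f ⊤ U le_top).hom :=
    OmAff9.bijective_toSect f hU (isAffineOpen_top _) le_top
  let T : KaehlerDifferential Γ(Spec (CommRingCat.of k), ⊤) Γ(X, U) ≃ₗ[Γ(X, U)] Γ(Omega.sheaf f, U) :=
    LinearEquiv.ofBijective (OmAff.toSect f ⊤ U le_top).hom hb
  refine ⟨fun m => E (T.symm m), fun m m' => by rw [map_add, map_add], fun a m => ?_, fun b F hF => ?_⟩
  · rw [map_smul, hEs]
    rfl
  · have hT : T.symm (OmegaSh.dSect f U (L.i.app V b)) =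
        KaehlerDifferential.D Γ(Spec (CommRingCat.of k), ⊤) Γ(X, U) (L.i.app V b) :=
      T.symm_apply_eq.2 (OmAff.toSect_d f ⊤ U le_top _).symm
    show E (T.symm _) = _
    rw [hT, hE]
    exact h.twist_spec d hF

theorem Lift.IsXi.mres {V W : L.Xl.Opens} {ξ : Γ(Omega.sheaf f, L.i ⁻¹ᵁ V) → Γ(Omega.sheaf f, L.i ⁻¹ᵁ V)}
    {ξ' : Γ(Omega.sheaf f, L.i ⁻¹ᵁ W) → Γ(Omega.sheaf f, L.i ⁻¹ᵁ W)} (hξ : L.IsXi V ξ) (hξ' : L.IsXi W ξ')
    (hV : IsAffineOpen V) (h : W ≤ V) (m : Γ(Omega.sheaf f, L.i ⁻¹ᵁ V)) :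
    InvExt.mres (Omega.sheaf f) (L.i.preimage_mono h) (ξ m) =
      ξ' (InvExt.mres (Omega.sheaf f) (L.i.preimage_mono h) m) := by
  induction span_dSect (L.isAffineOpen hV) m using Submodule.span_induction with
  | mem y hy =>
    obtain ⟨a, rfl⟩ := hy
    obtain ⟨b, rfl⟩ := (L.isLiftSys hV).surj a
    obtain ⟨F, hF⟩ := (L.isLiftSys hV).exists_F b
    have hnat : ∀ b : Γ(L.Xl, V), X.presheaf.map (homOfLE (L.i.preimage_mono h)).op (L.i.app V b) =
        L.i.app W (L.Xl.presheaf.map (homOfLE h).op b) := fun b =>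
      (congr($(L.i.naturality (homOfLE h).op) b)).symm
    have hd : ∀ a, InvExt.mres (Omega.sheaf f) (L.i.preimage_mono h) (OmegaSh.dSect f _ a) =
        OmegaSh.dSect f _ (X.presheaf.map (homOfLE (L.i.preimage_mono h)).op a) := fun a =>
      (OmegaSh.dSect_map f (L.i.preimage_mono h) a).symm
    rw [hξ.dval b F hF, mres_add, InvExt.mres_smul, hd, hd, hnat, hnat,
      hξ'.dval _ (L.Xl.presheaf.map (homOfLE h).op F) ?_]
    · congr 2
      show X.presheaf.map _ (L.i.app V b ^ (p - 1)) = _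
      rw [map_pow, hnat]
    · rw [← L.res_Φ h, hF, map_add, map_mul, map_pow, map_natCast]
  | zero =>
    have z : ∀ {V} {η : Γ(Omega.sheaf f, L.i ⁻¹ᵁ V) → Γ(Omega.sheaf f, L.i ⁻¹ᵁ V)}, L.IsXi V η → η 0 = 0 :=
      fun hη => by simpa using hη.add 0 0
    rw [z hξ, mres_zero, z hξ']
  | add a b _ _ ha hb => rw [hξ.add, mres_add, ha, hb, mres_add, hξ'.add]
  | smul c a _ ha =>
    rw [hξ.smul, InvExt.mres_smul, ha, InvExt.mres_smul, hξ'.smul]
    congr 1
    exact map_pow _ _ _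

end Xi

end GrothLib.FrobLiftDet26

end
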