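import Groth.Agent.Lib.FrobLiftDet26.Det
import Mathlib

/-!
# For torsion canonical module the determinant of the Frobenius lift is a unit
-/

set_option autoImplicit false
set_option maxHeartbeats 1000000
set_option linter.style.haveILetI false
set_option backward.isDefEq.respectTransparency false

universe u

open CategoryTheory CategoryTheory.Limits AlgebraicGeometry Opposite TopologicalSpace

noncomputable section

namespace GrothLib.FrobLiftDet26

open GrothLib.InvExt (mres IsGen)
open GrothLib.Ample (Cocycle res res_res mres_smul')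
open GrothLib.FinCov (IsFrame)

variable {p : ℕ} [Fact p.Prime] {k : Type u} [Field k] [IsAlgClosed k] [CharP k p] {X : Scheme.{u}}
  [FrobSch.IsCharP X p] {f : X ⟶ Spec (CommRingCat.of k)} [QuasiSeparated f] (L : Lift p f) {d : ℕ}

/-- A global trivialisation of a twist has unit components. -/
theorem exists_unit_sect {Y : Scheme.{u}} (c : Cocycle Y) {m : ℕ} (e : Coh.structureModule Y ≅ c.twist m) :
    ∃ τ : ∀ i, Γ(Y, c.D i), (∀ i, IsUnit (τ i)) ∧
      ∀ (i j : c.ι) (U : Y.Opens) (hi : U ≤ c.D i) (hj : U ≤ c.D j),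
        res hi (τ i) = c.G i j hi hj ^ m * res hj (τ j) := by
  obtain ⟨a, ha⟩ := c.exists_hom_eq e.hom
  refine ⟨fun i => res (le_inf le_top le_rfl) (a.1 i), fun i => ?_, fun i j U hi hj => ?_⟩
  · have hbij : Function.Bijective (e.hom.app (c.D i)) := (ConcreteCategory.isIso_iff_bijective _).1
      (Scheme.Modules.Hom.isIso_iff_isIso_app.1 (inferInstance : IsIso e.hom) (c.D i))
    obtain ⟨r, hr⟩ := hbij.2 (c.base m i le_rfl)
    have h1 : c.base m i le_rfl = (show Γ(Y, c.D i) from r) • c.sectRes (le_top : c.D i ≤ ⊤) a := by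
      rw [← hr, ← ha]
      exact c.hom_app_apply a (c.D i) r
    have h2 := congrArg (fun s => res (le_inf le_rfl le_rfl : c.D i ≤ c.D i ⊓ c.D i) (s.1 i)) h1
    simp only [Cocycle.base_self, map_one, Cocycle.smul_apply, Cocycle.sectRes_apply, map_mul, res_res] at h2
    exact IsUnit.of_mul_eq_one _ ((mul_comm _ _).trans h2.symm)
  · have h := c.sect_spec a i j (W := U) (le_inf le_top hi) (le_inf le_top hj)
    simp only [res_res]
    exact h

/-- If the canonical module is torsion then every determinant is a unit. -/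
theorem isUnit_cdet [IsIntegral X] [IsProper f] (W : X.Modules) (hW : ExtPow.IsExtPow d (Omega.sheaf f) W)
    (hF : FlatMod.IsFinLocFreeOfRank d (Omega.sheaf f)) {m : ℕ} (hm : 0 < m)
    (htors : Nonempty (CohB1.tensorPow W m ≅ Coh.structureModule X)) (c : Chart L (d := d)) : IsUnit c.cdet := by
  classical
  obtain ⟨g, hcv, hs, ht, ⟨eW⟩, hloc⟩ := exists_cocycle L W hW hF
  let C : Cocycle X :=
    { ι := Chart L (d := d), D := fun c => c.D, g := g, cover := hcv, self := hs, change := ht }
  obtain ⟨eq⟩ := C.nonempty_tensorPow_iso (show W ≅ C.twist 1 from eW) m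
  obtain ⟨e⟩ := htors
  obtain ⟨τ, hτu, hτ⟩ := exists_unit_sect C (e.symm ≪≫ eq)
  let loc : ∀ c : Chart L (d := d), Γ(X, c.D) := fun c => c.cdet ^ m * τ c ^ (p - 1)
  have hcompat : ∀ (a b : Chart L (d := d)) (U : X.Opens) (ha : U ≤ a.D) (hb : U ≤ b.D),
      res ha (loc a) = res hb (loc b) := by
    intro a b U ha hb
    show res ha (a.cdet ^ m * τ a ^ (p - 1)) = res hb (b.cdet ^ m * τ b ^ (p - 1))
    have h1 := hloc a b U ha hb
    have h2 := hτ a b U ha hb
    simp only [map_mul, map_pow]
    rw [h1, h2, mul_pow, mul_pow, ← pow_mul, ← pow_mul, mul_comm m (p - 1)]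
    show _ = C.G a b ha hb ^ ((p - 1) * m) * _ * _
    ring
  obtain ⟨G, hG, -⟩ := TopCat.Sheaf.existsUnique_gluing' X.sheaf (fun c : Chart L (d := d) => c.D) ⊤
    (fun c => homOfLE le_top) hcv.ge loc fun a b => hcompat a b _ inf_le_left inf_le_right
  have hG' : ∀ c : Chart L (d := d), res (le_top : c.D ≤ ⊤) G = loc c := hG
  obtain ⟨c₀, hne, hc₀⟩ := exists_chart_ne_zero L hF
  haveI : Nonempty c₀.D := hne
  have hG0 : G ≠ 0 := by
    intro h0
    have := hG' c₀
    rw [h0, map_zero] at this
    exact mul_ne_zero (pow_ne_zero _ hc₀) (pow_ne_zero _ (hτu c₀).ne_zero) this.symm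
  have hu : IsUnit (loc c) := by
    obtain ⟨q, hq⟩ := (isField_of_universallyClosed k f).mul_inv_cancel (a := (G : Γ(X, ⊤))) hG0
    rw [← hG' c]
    exact (IsUnit.of_mul_eq_one _ hq).map _
  have hcu : IsUnit (c.cdet ^ m) := isUnit_of_mul_isUnit_left hu
  exact (isUnit_pow_iff hm.ne').1 hcu

end GrothLib.FrobLiftDet26

end
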